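import Cfsg.Agent.TT95.Uni22.Chk0
import Cfsg.Agent.TT95.Uni22.Chk1
import Cfsg.Agent.TT95.Uni22.Chk2
import Cfsg.Agent.TT95.Uni22.Chk3
import Cfsg.Agent.TT95.Uni22.Orbit
import Cfsg.Agent.TT95.U6Residue

/-! The kernel checks of the certificates for uniqueness of type M(22). -/

set_option autoImplicit false

namespace Cfsg.Agent.TT95.Uni22

open Cfsg.Agent.TT95.U6

theorem lengths : gX.length = 12 ∧ words.length = 301 ∧ rels.length = 629 ∧ relCert.length = 629 ∧
    g0.length = 6 ∧ s0.length = 126 ∧ nodes.length = 185 := by decide +kernel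

theorem gX_pts : gX.all isPt = true := by decide +kernel

theorem words_check : words.all wordOK = true := by decide +kernel

theorem rels_check : ((List.range 629).all fun i => relOK (rels.getD i []) (relCert.getD i (0, 0, 0, 0, []))) = true := by
  decide +kernel

theorem reach_check : ((List.range 3510).all fun t => reach0 8 t) = true := by decide +kernel

theorem nodes_check : ((List.range 185).all fun n => nodeOK n (nodes.getD n ⟨[], [], .dup 0 0 0⟩)) = true := by
  decide +kernel

theorem psi_check : allP (fun p => isPt (psi p) && Nat.beq (psi (psi (psi p))) p) pts = true := by decide +kernel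

theorem psi_conj_check : allP (fun p => gX.all fun e => Nat.beq (psi (tv e p)) (tv (psi e) (psi p)) &&
    Nat.beq (psi (psi (tv e p))) (tv (psi (psi e)) (psi (psi p)))) pts = true := by decide +kernel

theorem psi_orth_check : (gX.all fun e => gX.all fun f => (orth (psi e) (psi f) == orth e f) &&
    (orth (psi (psi e)) (psi (psi f)) == orth e f)) = true := by decide +kernel

theorem s0_check : derive g0Der g0 = s0 ∧ deriveOK g0Der g0 = true ∧ g0.all isPt = true ∧
    distinctOK s0 0 = true ∧ s0.all isPt = true := by decide +kernel

theorem s0_psi_check : (g0Der.all fun ij =>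
    Nat.beq (psi (tv (s0.getD ij.1 0) (s0.getD ij.2 0))) (tv (psi (s0.getD ij.1 0)) (psi (s0.getD ij.2 0))) &&
    Nat.beq (psi (psi (tv (s0.getD ij.1 0) (s0.getD ij.2 0))))
      (tv (psi (psi (s0.getD ij.1 0))) (psi (psi (s0.getD ij.2 0))))) = true := by decide +kernel

theorem orbX_check : bfsOK (inMask (maskOf gX)) orbX (maskOf gX) = true ∧
    allP (fun p => inMask (maskOf (gX ++ orbX.map Prod.fst)) p) pts = true := by decide +kernel

theorem line_mem : [1, 4, 5, 9, 13].all isPt = true ∧
    (nodes.getD 0 ⟨[], [], .dup 0 0 0⟩).base.all (fun p => p == 1 || p == 4 || p == 16) = true := by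
  decide +kernel

theorem seed_check : gX.all (fun e => !inS e || gX.any (fun f => !inS f && !orth e f)) = true := by
  decide +kernel

theorem sect_check : allP (fun x => allP (fun y => !(orth x f1 && orth y f1 && Nat.beq (key x) (key y)) ||
      Nat.beq x y) perp1) perp1 = true ∧
    allP (fun k => perp1.any fun r => orth r f1 && Nat.beq (key r) k && !Nat.beq r e1) keys = true := by decide +kernel

end Cfsg.Agent.TT95.Uni22
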