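import Cfsg.Agent.TT95.Uni22.Unique
import Cfsg.Agent.TT95.Orders
import Cfsg.Agent.SporB.Fi22.Main

/-!
Every group of type M(22) is the presented Fischer group Fi22, the nine generators being transpositions.
-/

set_option autoImplicit false
set_option linter.unusedSectionVars false

namespace Cfsg.Agent.TT95.Uni22

open Cfsg.Agent.TT95.U6 Cfsg.Agent.CosetEnum

/-- Nine transpositions forming the diagram: conjugating letters and the transposition conjugated. -/
def coxGen : List (List ℕ × ℕ) :=
  [([12, 7], 0), ([7, 6], 0), ([], 1), ([], 0), ([12, 6], 0), ([7, 5], 1), ([7, 5], 0), ([9], 0), ([12, 5], 0)]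

/-- The word of one of the nine. -/
def coxWord (l : ℕ) : List ℕ := match coxGen.getD l ([], 0) with
  | (u, x) => u ++ x :: u.reverse

/-- Spell a word in the nine in the thirteen. -/
def spell : List ℕ → List ℕ
  | [] => []
  | l :: r => coxWord l ++ spell r

/-- The action of a word on a point. -/
def runT : List ℕ → ℕ → ℕ
  | [], t => t
  | g :: r, t => eTgt (ent (runT r t) g)

/-- Points whose stabiliser is trivial. -/
def basePts : List ℕ := 0 :: 1 :: (List.range 12).flatMap fun e => eTgt (ent 1 e) ::
  (List.range 12).map fun f => eTgt (ent (eTgt (ent 1 f)) e)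

theorem tree_check : parP 1 = 0 ∧ parG 1 = 12 ∧ reach0 8 1 = true ∧
    coxGen.all (fun c => c.1.all (fun i => Nat.blt i 13) && Nat.blt c.2 13) = true := by decide +kernel

theorem cox_rel_check : (Cfsg.Agent.CosetEnum.Fi22.pres.relWords.all fun W =>
    W.all (fun l => Nat.blt l 9) && basePts.all fun t => Nat.beq (runT (spell W) t) t) = true := by
  decide +kernel

variable {G : Type*} [Group G] [Finite G] {D : Set G} (hC : Cfg22 D) [Gen D] {a d : G} {δ : ℕ → G}
  (h : Std D a d δ)

include hC h

theorem name_one : name a d δ 1 = d * a * d := by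
  obtain ⟨h1, h2, -⟩ := tree_check
  show nameF a d δ (7 + 1) 1 = _
  rw [nameF, if_neg one_ne_zero, h1, h2]
  simp [nameF, gen]

/-- An element fixing the base points is trivial. -/
theorem base_trivial {Φ : G →* Equiv.Perm (Fin 3510)} (hinj : Function.Injective Φ)
    (hΦ : ∀ i, i < 13 → ∀ t : Fin 3510, (Φ (gen d δ i) t : ℕ) = eTgt (ent t i))
    (hname : ∀ g (t : Fin 3510), name a d δ (Φ g t) = g * name a d δ t * g⁻¹) {z : G}
    (hz : ∀ t : Fin 3510, (t : ℕ) ∈ basePts → Φ z t = t) : z = 1 := by
  have hcom : ∀ t, t < 3510 → t ∈ basePts → Commute z (name a d δ t) := fun t ht hm => by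
    have e := hname z ⟨t, ht⟩
    rw [hz ⟨t, ht⟩ hm] at e
    exact mul_inv_eq_iff_eq_mul.1 e.symm
  have ha : Commute z a := hcom 0 (by norm_num) (by simp [basePts])
  have hda : ¬ Commute d a := fun c => h.memd.2 c.symm
  have h1 : Commute z (d * a * d) := name_one hC h ▸ hcom 1 (by norm_num) (by simp [basePts])
  have hd : Commute z d := by
    have e : a * (d * a * d) * a = d := by
      rw [← braid h.tt h.mema h.memd.1 h.memd.2]
      simp only [← mul_assoc]
      rw [sq h.tt h.mema, one_mul, mul_assoc d a a, sq h.tt h.mema, mul_one]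
    rw [← e]; exact (ha.mul_right h1).mul_right ha
  have hcommX : ∀ e, e < 12 → Commute a (gen d δ e) := fun e he => by
    rw [gen, if_pos he]; exact (h.mem _ (gX_mem he).2).2.2
  have hpt : ∀ e, e < 12 → eTgt (ent 1 e) < 3510 ∧
      name a d δ (eTgt (ent 1 e)) = gen d δ e * (d * a * d) * gen d δ e := fun e he => by
    obtain ⟨h1', h2'⟩ := ent_spec h (show 1 < 3510 by norm_num) (show e < 13 by omega)
    exact ⟨h1', by rw [← h2', name_one hC h]⟩
  have hout : ∀ e, e < 12 → ¬ Commute d (gen d δ e) → Commute z (gen d δ e) := by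
    intro e he hn
    have c1 := hcom _ (hpt e he).1 (by simp only [basePts, List.mem_cons, List.mem_flatMap, List.mem_range]; exact Or.inr (Or.inr ⟨e, he, Or.inl rfl⟩))
    rw [(hpt e he).2] at c1
    have ce := hcommX e he
    have c2 : Commute z (gen d δ e * d * gen d δ e) := by
      have : a * (gen d δ e * (d * a * d) * gen d δ e) * a = gen d δ e * d * gen d δ e := by
        rw [← braid h.tt h.mema h.memd.1 h.memd.2,
          show a * (gen d δ e * (a * d * a) * gen d δ e) * a = (a * gen d δ e) * a * d * (a * (gen d δ e * a)) by group,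
          ce.eq, mul_assoc (gen d δ e) a a, sq h.tt h.mema, mul_one, ← ce.eq, ← mul_assoc a a, sq h.tt h.mema, one_mul]
      rw [← this]; exact (ha.mul_right c1).mul_right ha
    rw [← braid h.tt h.memd.1 (gen_memD h e) hn] at c2
    have e2 : d * (d * gen d δ e * d) * d = gen d δ e := by
      simp only [← mul_assoc]
      rw [sq h.tt h.memd.1, one_mul, mul_assoc (gen d δ e) d d, sq h.tt h.memd.1, mul_one]
    rw [← e2]; exact (hd.mul_right c2).mul_right hd
  have hall : ∀ e, e < 12 → Commute z (gen d δ e) := by
    intro e he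
    by_cases hn : Commute d (gen d δ e)
    swap; · exact hout e he hn
    obtain ⟨pm, pp⟩ := gX_mem he
    have hs := List.all_eq_true.1 seed_check _ pm
    have hin : inS (gX.getD e 0) = true := (h.mark _ pp).1 (by rwa [gen, if_pos he] at hn)
    simp only [hin, Bool.not_true, Bool.false_or, List.any_eq_true, Bool.and_eq_true, Bool.not_eq_true'] at hs
    obtain ⟨f', hf', hsf, hef⟩ := hs
    obtain ⟨f, hfi, rfl⟩ := List.getElem_of_mem hf'
    have hf : f < 12 := lengths.1 ▸ hfi
    have hfe : gen d δ f = δ gX[f] := by rw [gen, if_pos hf, List.getD_eq_getElem _ _ hfi]; rfl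
    have hnd : ¬ Commute d (gen d δ f) := fun c => by
      rw [hfe] at c
      rw [(h.mark _ (List.all_eq_true.1 gX_pts _ hf')).1 c] at hsf
      simp at hsf
    have hne : ¬ Commute (gen d δ e) (gen d δ f) := fun c => by
      rw [hfe, gen, if_pos he] at c
      rw [(h.comm _ pm _ hf').1 c] at hef
      simp at hef
    obtain ⟨h2a, h2b⟩ := ent_spec h (hpt f hf).1 (show e < 13 by omega)
    rw [(hpt f hf).2] at h2b
    have c1 := hcom _ h2a (by
      simp only [basePts, List.mem_cons, List.mem_flatMap, List.mem_range, List.mem_map]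
      exact Or.inr (Or.inr ⟨e, he, Or.inr ⟨f, hf, rfl⟩⟩))
    rw [← h2b] at c1
    set E := gen d δ e
    set F := gen d δ f
    have hE := gen_memD h e
    have hF := gen_memD h f
    have caE : Commute a E := hcommX e he
    have caF : Commute a F := hcommX f hf
    have c2 : Commute z (E * F * d * F * E) := by
      have e3 : a * (E * (F * (d * a * d) * F) * E) * a = E * F * d * F * E := by
        rw [← braid h.tt h.mema h.memd.1 h.memd.2,
          show a * (E * (F * (a * d * a) * F) * E) * a = (a * (E * F)) * a * d * (a * ((F * E) * a)) by group,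
          (caE.mul_right caF).eq, mul_assoc (E * F) a a, sq h.tt h.mema, mul_one, ← (caF.mul_right caE).eq,
          ← mul_assoc a a, sq h.tt h.mema, one_mul]
        group
      rw [← e3]; exact (ha.mul_right c1).mul_right ha
    have c3 : Commute z (E * F * E) := by
      have e4 : d * (E * F * d * F * E) * d = E * F * E := by
        rw [show d * (E * F * d * F * E) * d = (d * E) * (F * d * F) * (E * d) by group,
          ← braid h.tt h.memd.1 hF hnd, hn.eq, ← hn.eq,
          show d * E * (d * F * d) * (d * E) = d * E * d * F * (d * d) * E by group, sq h.tt h.memd.1, mul_one,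
          mul_assoc d E d, ← hn.eq, ← mul_assoc, sq h.tt h.memd.1, one_mul]
      rw [← e4]; exact (hd.mul_right c2).mul_right hd
    rw [braid h.tt hE hF hne] at c3
    have hcF := hout f hf hnd
    have e5 : F * (F * E * F) * F = E := by
      simp only [← mul_assoc]
      rw [sq h.tt hF, one_mul, mul_assoc E F F, sq h.tt hF, mul_one]
    rw [← e5]; exact (hcF.mul_right c3).mul_right hcF
  have hz' : z ∈ Subgroup.center G := by
    rw [Subgroup.mem_center_iff]
    have hle : Subgroup.closure (gen d δ '' {i | i < 13}) ≤ Subgroup.centralizer {z} := by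
      rw [Subgroup.closure_le]
      rintro _ ⟨i, hi, rfl⟩
      refine Subgroup.mem_centralizer_singleton_iff.2 ?_
      by_cases h12 : i < 12
      · exact (hall i h12).symm.eq
      · rw [gen, if_neg h12]; exact hd.symm.eq
    rw [(numbering hC h).2] at hle
    exact fun g => Subgroup.mem_centralizer_singleton_iff.1 (hle (Subgroup.mem_top g))
  rwa [hC.center, Subgroup.mem_bot] at hz'

omit hC in
theorem spell_lt {W : List ℕ} (hW : ∀ l ∈ W, l < 9) : ∀ g ∈ spell W, g < 13 := by
  clear h
  induction W with
  | nil => simp [spell]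
  | cons l W ih =>
    intro g hg
    rcases List.mem_append.1 hg with hg | hg
    · have hl : l < coxGen.length := hW l List.mem_cons_self
      have hc := List.all_eq_true.1 tree_check.2.2.2 _ (List.getElem_mem hl)
      rw [coxWord, List.getD_eq_getElem _ _ hl] at hg
      obtain ⟨u, x⟩ := coxGen[l]
      simp only [Bool.and_eq_true, List.all_eq_true, Nat.blt_eq] at hc
      simp only [List.mem_append, List.mem_cons, List.mem_reverse] at hg
      rcases hg with hg | rfl | hg
      exacts [hc.1 g hg, hc.2, hc.1 g hg]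
    · exact ih (fun m hm => hW m (List.mem_cons_of_mem _ hm)) g hg

/-- The nine transpositions. -/
theorem coxGen_mem {l : ℕ} (hl : l < 9) : ((coxWord l).map (gen d δ)).prod ∈ D := by
  rw [coxWord]
  obtain ⟨u, x⟩ := coxGen.getD l ([], 0)
  dsimp only
  rw [List.map_append, List.prod_append, List.map_cons, List.prod_cons, prod_rev h, ← mul_assoc]
  exact conj_mem h.tt _ (gen_memD h x)

/-- A group of type M(22) is the presented group Fi22. -/
theorem exists_fi22_std (hcore : Core22 G D) :
    ∃ f : Cfsg.Spor.Fi22 ≃* G, ∀ x, f (PresentedGroup.of x) ∈ D := by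
  classical
  obtain ⟨Φ, hinj, -, hΦ, hname⟩ := exists_perm_rep hC h
  set p : ℕ → G := fun l => ((coxWord l).map (gen d δ)).prod with hp
  set v : Cfsg.Spor.Fi22.Gen → Equiv.Perm (Fin 3510) := fun x => Φ (p (Fi22.genList.idxOf x)) with hv
  have hlet : ∀ W : List ℕ, (∀ l ∈ W, l < 9) →
      evalWord (letterVal Fi22.pres.gens v) W = Φ ((spell W).map (gen d δ)).prod := by
    intro W hW
    induction W with
    | nil => simp [spell, evalWord]
    | cons l W ih =>
      have hl : l < 9 := hW l List.mem_cons_self
      have hidx : ∀ (hl' : l < Fi22.genList.length), Fi22.genList.idxOf Fi22.genList[l] = l := fun hl' =>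
        List.Nodup.idxOf_getElem (show Fi22.genList.Nodup by decide) l hl'
      rw [evalWord, ih fun m hm => hW m (List.mem_cons_of_mem _ hm), spell, List.map_append, List.prod_append,
        map_mul, letterVal_of_lt _ _ (show l < Fi22.pres.gens.length from hl)]
      congr 1
      exact congrArg (fun i => Φ (p i)) (hidx hl)
  have hrun : ∀ (W : List ℕ), (∀ g ∈ W, g < 13) → ∀ t : Fin 3510,
      ((Φ (W.map (gen d δ)).prod) t : ℕ) = runT W t := by
    intro W hW
    induction W with
    | nil => intro t; simp [runT]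
    | cons g W ih =>
      intro t
      rw [List.map_cons, List.prod_cons, map_mul, Equiv.Perm.mul_apply, hΦ g (hW g List.mem_cons_self),
        ih (fun m hm => hW m (List.mem_cons_of_mem _ hm))]
      rfl
  have hrel : ∀ W ∈ Fi22.pres.relWords, evalWord (letterVal Fi22.pres.gens v) W = 1 := by
    intro W hW
    have hc := List.all_eq_true.1 cox_rel_check W hW
    simp only [Bool.and_eq_true, List.all_eq_true, Nat.blt_eq] at hc
    rw [hlet W hc.1, base_trivial hC h hinj hΦ hname (z := ((spell W).map (gen d δ)).prod) fun t ht => Fin.ext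
      ((hrun _ (spell_lt h hc.1) t).trans (Nat.eq_of_beq_eq_true (hc.2 _ ht))), map_one]
  let f0 : Cfsg.Spor.Fi22 →* Equiv.Perm (Fin 3510) := PresentedGroup.toGroup (Fi22.pres.kills v hrel)
  have hf0 : ∀ x, f0 (PresentedGroup.of x) = v x := fun x => PresentedGroup.toGroup.of _
  have hle : f0.range ≤ Φ.range := by
    rw [MonoidHom.range_eq_map, ← PresentedGroup.closure_range_of, MonoidHom.map_closure, Subgroup.closure_le]
    rintro _ ⟨_, ⟨x, rfl⟩, rfl⟩
    exact ⟨_, (hf0 x).symm⟩
  let f : Cfsg.Spor.Fi22 →* G :=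
    (MonoidHom.ofInjective hinj).symm.toMonoidHom.comp ((Subgroup.inclusion hle).comp f0.rangeRestrict)
  have hfΦ : ∀ x, Φ (f x) = f0 x := fun x => by
    show Φ ((MonoidHom.ofInjective hinj).symm _) = _
    rw [MonoidHom.apply_ofInjective_symm]; rfl
  have hgen : ∀ x, f (PresentedGroup.of x) = p (Fi22.genList.idxOf x) := fun x => hinj ((hfΦ _).trans (hf0 x))
  have hmem : ∀ x, f (PresentedGroup.of x) ∈ D := fun x => by
    rw [hgen]
    exact coxGen_mem hC h (List.idxOf_lt_length_of_mem (Fi22.pres.all_gens x))
  haveI : IsSimpleGroup Cfsg.Spor.Fi22 := Fi22.simple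
  haveI : Finite Cfsg.Spor.Fi22 := Fi22.finite
  have hker : f.ker = ⊥ := (f.normal_ker.eq_bot_or_eq_top).resolve_right fun ht => by
    have h1 : f (PresentedGroup.of .a) = 1 := MonoidHom.mem_ker.1 (ht ▸ Subgroup.mem_top _)
    exact ne_one h.tt (hmem .a) h1
  have hbij : Function.Bijective f := (Nat.bijective_iff_injective_and_card f).2
    ⟨(MonoidHom.ker_eq_bot_iff f).1 hker, by rw [show Nat.card Cfsg.Spor.Fi22 = _ from Fi22.card_eq.1, card_group hC h.mema hcore]⟩
  exact ⟨MulEquiv.ofBijective f hbij, hmem⟩

end Cfsg.Agent.TT95.Uni22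

namespace Cfsg.Agent.TT95

/-- A group of type M(22) is the presented group Fi22, generators going to transpositions. -/
theorem exists_fi22 {G : Type*} [Group G] [Finite G] {D : Set G} (hC : Cfg22 D) [Gen D] (hcore : Core22 G D)
    {a : G} (ha : a ∈ D) : ∃ f : Cfsg.Spor.Fi22 ≃* G, ∀ x, f (PresentedGroup.of x) ∈ D := by
  obtain ⟨d, δ, hs⟩ := Uni22.exists_std hC ha
  exact Uni22.exists_fi22_std hC hs hcore

end Cfsg.Agent.TT95
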