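import Cfsg.Agent.TT95.Uni22.Frame
import Cfsg.Agent.TT95.Centralizer

/-!
Type M(22): the permutation representation on the transpositions is determined, hence so is the group.
-/

set_option autoImplicit false
set_option linter.unusedSectionVars false

namespace Cfsg.Agent.TT95.Uni22

open Cfsg.Agent.TT95.U6

variable {G : Type*} [Group G] [Finite G] {D : Set G} (hC : Cfg22 D) [Gen D] {a d : G} {δ : ℕ → G}
  (h : Std D a d δ)

include hC h

/-- The named conjugates number the transpositions and the generators generate. -/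
theorem numbering :
    Set.BijOn (name a d δ) {t | t < 3510} D ∧ Subgroup.closure (gen d δ '' {i | i < 13}) = ⊤ := by
  set M := Subgroup.closure (gen d δ '' {i | i < 13}) with hM
  set W : Set G := name a d δ '' {t | t < 3510} with hW
  have hgM : ∀ i, i < 13 → gen d δ i ∈ M := fun i hi => Subgroup.subset_closure ⟨i, hi, rfl⟩
  have hdM : d ∈ M := by simpa [gen] using hgM 12 (by norm_num)
  have hXg : ∀ e ∈ gX, ∃ i, i < 12 ∧ gen d δ i = δ e ∧ isPt e = true := by
    intro e he
    obtain ⟨i, hi, rfl⟩ := List.getElem_of_mem he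
    rw [lengths.1] at hi
    refine ⟨i, hi, ?_, List.all_eq_true.1 gX_pts _ he⟩
    rw [gen, if_pos hi, List.getD_eq_getElem _ _ (by rw [lengths.1]; exact hi)]
  have horb : ∀ Q : ℕ → Prop, (∀ e ∈ gX, Q e) →
      (∀ e x, e ∈ gX → isPt x = true → Q x → Q (tv e x)) → ∀ p, isPt p = true → Q p := by
    intro Q h0 hstep
    have key : ∀ (L : List (ℕ × ℕ × ℕ)) (seen : ℕ), bfsOK (inMask (maskOf gX)) L seen = true →
        (∀ x, inMask seen x = true → Q x ∧ isPt x = true) → ∀ y ∈ L.map Prod.fst, Q y ∧ isPt y = true := by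
      intro L
      induction L with
      | nil => simp
      | cons t L ih =>
        obtain ⟨y, e, x⟩ := t
        intro seen hok hs
        have he : bfsOK (inMask (maskOf gX)) ((y, e, x) :: L) seen = (inMask seen x && isPt e &&
            inMask (maskOf gX) e && Nat.beq (tv e x) y && bfsOK (inMask (maskOf gX)) L (addMask seen y)) := rfl
        rw [he] at hok
        simp only [Bool.and_eq_true] at hok
        obtain ⟨⟨⟨⟨h1, h2⟩, h3⟩, h4⟩, h5⟩ := hok
        obtain ⟨qx, px⟩ := hs x h1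
        have hy : Q y ∧ isPt y = true := by
          rw [← Nat.eq_of_beq_eq_true h4]
          exact ⟨hstep e x (inMask_maskOf.1 h3) px qx, h.isPt_tv e x h2 px⟩
        intro z hz
        rcases List.mem_cons.1 hz with rfl | hz
        · exact hy
        · refine ih _ h5 (fun w hw => ?_) z hz
          rw [inMask_addMask, Bool.or_eq_true, decide_eq_true_eq] at hw
          rcases hw with hw | rfl
          exacts [hs w hw, hy]
    have h0' : ∀ x, inMask (maskOf gX) x = true → Q x ∧ isPt x = true := fun x hx =>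
      ⟨h0 x (inMask_maskOf.1 hx), List.all_eq_true.1 gX_pts x (inMask_maskOf.1 hx)⟩
    intro p hp
    have hmem := inMask_maskOf.1 (allP_iff.1 orbX_check.2 p (mem_pts.2 hp))
    rcases List.mem_append.1 hmem with hm | hm
    · exact h0 p hm
    · exact (key orbX _ orbX_check.1 h0' p hm).1
  have hptM : ∀ p, isPt p = true → δ p ∈ M := by
    refine horb _ (fun e he => ?_) (fun e x he hx hxM => ?_)
    · obtain ⟨i, hi, e', -⟩ := hXg e he
      exact e' ▸ hgM i (by omega)
    · obtain ⟨i, hi, e', -⟩ := hXg e he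
      have he' : δ e ∈ M := e' ▸ hgM i (by omega)
      rw [← h.conj e he x hx]
      exact mul_mem (mul_mem he' hxM) (inv_mem he')
  have haM : a ∈ M := by
    have hl := fun p hp => hptM p (List.all_eq_true.1 line_mem.1 p hp)
    rw [← h.line]
    exact mul_mem (mul_mem (mul_mem (mul_mem (hl 1 (by simp)) (hl 4 (by simp))) (hl 5 (by simp))) (hl 9 (by simp)))
      (hl 13 (by simp))
  have hgW : ∀ i, i < 13 → ∀ x, x ∈ W ↔ gen d δ i * x * (gen d δ i)⁻¹ ∈ W := by
    intro i hi
    have hfw : ∀ x ∈ W, gen d δ i * x * (gen d δ i)⁻¹ ∈ W := by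
      rintro _ ⟨t, ht, rfl⟩
      rw [inv_eq h.tt (gen_memD h i)]
      obtain ⟨h1, h2⟩ := ent_spec h ht hi
      exact ⟨_, h1, h2.symm⟩
    intro x
    refine ⟨hfw x, fun hx => ?_⟩
    have := hfw _ hx
    rwa [inv_eq h.tt (gen_memD h i), ← mul_assoc, ← mul_assoc, gen_sq h, one_mul, mul_assoc, gen_sq h, mul_one] at this
  have hMW : ∀ m ∈ M, ∀ x, x ∈ W ↔ m * x * m⁻¹ ∈ W := by
    intro m hm
    rw [hM] at hm
    induction hm using Subgroup.closure_induction with
    | mem g hg => obtain ⟨i, hi, rfl⟩ := hg; exact hgW i hi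
    | one => intro x; simp
    | mul g k _ _ eg ek =>
      intro x
      rw [ek x, eg (k * x * k⁻¹), show g * (k * x * k⁻¹) * g⁻¹ = g * k * x * (g * k)⁻¹ by group]
    | inv g _ eg =>
      intro x
      rw [eg (g⁻¹ * x * g⁻¹⁻¹), show g * (g⁻¹ * x * g⁻¹⁻¹) * g⁻¹ = x by group]
  have haW : a ∈ W := ⟨0, by norm_num, rfl⟩
  have hbr : ∀ x y, x ∈ D → y ∈ D → x ∈ M → y ∈ M → ¬ Commute x y → x ∈ W → y ∈ W := by
    intro x y hx hy hxM hyM hc hxW
    have e : x * y * x * (x * y)⁻¹ = y := by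
      rw [mul_inv_rev, inv_eq h.tt hx, inv_eq h.tt hy, braid h.tt hx hy hc, ← mul_assoc, mul_assoc (y * x) y y,
        sq h.tt hy, mul_one, mul_assoc y x x, sq h.tt hx, mul_one]
    exact e ▸ (hMW (x * y) (mul_mem hxM hyM) x).1 hxW
  have hdW : d ∈ W := hbr a d h.mema h.memd.1 haM hdM h.memd.2 haW
  have hseed : ∀ e ∈ gX, δ e ∈ W := by
    have hout : ∀ e ∈ gX, inS e = false → δ e ∈ W := fun e he hs => by
      have hp := List.all_eq_true.1 gX_pts e he
      exact hbr d _ h.memd.1 (h.mem e hp).1 hdM (hptM e hp)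
        (fun hc => by rw [(h.mark e hp).1 hc] at hs; simp at hs) hdW
    intro e he
    have hs := List.all_eq_true.1 seed_check e he
    simp only [Bool.or_eq_true, Bool.not_eq_true', List.any_eq_true, Bool.and_eq_true] at hs
    rcases hs with hs | ⟨f, hf, hsf, hef⟩
    · exact hout e he hs
    · have pe := List.all_eq_true.1 gX_pts e he
      have pf := List.all_eq_true.1 gX_pts f hf
      exact hbr _ _ (h.mem f pf).1 (h.mem e pe).1 (hptM f pf) (hptM e pe)
        (fun hc => by rw [(h.comm e he f hf).1 hc.symm] at hef; simp at hef) (hout f hf hsf)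
  have hptW : ∀ p, isPt p = true → δ p ∈ W := by
    refine horb _ hseed (fun e x he hx hxW => ?_)
    rw [← h.conj e he x hx]
    exact (hMW _ (hptM e (List.all_eq_true.1 gX_pts e he)) _).1 hxW
  have hname : ∀ f t, nameF a d δ f t ∈ D ∧ ∃ m ∈ M, nameF a d δ f t = m * a * m⁻¹ := by
    intro f
    induction f with
    | zero => exact fun t => ⟨h.mema, 1, one_mem _, by simp [nameF]⟩
    | succ f ih =>
      intro t
      rw [nameF]
      split_ifs
      · exact ⟨h.mema, 1, one_mem _, by simp⟩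
      · obtain ⟨hDm, m, hm, e⟩ := ih (parP t)
        refine ⟨conj_mem' h.tt hDm (gen_memD h _), gen d δ (parG t) * m, mul_mem ?_ hm, ?_⟩
        · rw [gen]; split_ifs with hi
          · exact hptM _ (gX_mem hi).2
          · exact hdM
        · rw [e, mul_inv_rev, inv_eq h.tt (gen_memD h _)]; group
  have hall : ∀ x ∈ D, x ∈ W := by
    intro x hx
    have hpath := hC.conn a h.mema x hx
    clear hx
    induction hpath with
    | refl => exact haW
    | @tail b c _ hbc ih =>
      obtain ⟨t, -, hb⟩ := ih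
      obtain ⟨-, m, hm, e⟩ := hname 8 t
      have hbe : b = m * a * m⁻¹ := hb.symm.trans e
      rcases eq_or_ne c b with rfl | hne
      · rw [hbe]; exact (hMW m hm a).1 haW
      have hy : m⁻¹ * c * m ∈ nb D a := by
        refine ⟨by simpa using conj_mem h.tt m⁻¹ hbc.2.1, fun he => hne ?_, ?_⟩
        · rw [hbe, ← he]; group
        · have := (Commute.conj_iff m⁻¹).2 hbc.2.2
          rwa [hbe, inv_inv, show m⁻¹ * (m * a * m⁻¹) * m = a by group] at this
      obtain ⟨p, hp, ep⟩ := h.surj _ hy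
      have := (hMW m hm _).1 (hptW p hp)
      rwa [ep, show m * (m⁻¹ * c * m) * m⁻¹ = c by group] at this
  have hWD : W ⊆ D := by rintro _ ⟨t, -, rfl⟩; exact (hname 8 t).1
  have hWeq : W = D := hWD.antisymm hall
  obtain ⟨γ, hγ⟩ := hC.loc a h.mema
  have hinj : Set.InjOn (name a d δ) {t | t < 3510} := by
    refine Set.injOn_of_ncard_image_eq ?_ (Set.finite_lt_nat _)
    rw [← hW, hWeq, ncard_D hC h.mema, show {t : ℕ | t < 3510} = ↑(Finset.range 3510) by ext; simp,
      Set.ncard_coe_finset, Finset.card_range]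
  refine ⟨⟨fun t _ => (hname 8 t).1, hinj, fun x hx => hall x hx⟩, ?_⟩
  rw [eq_top_iff, ← Gen.gen (D := D), Subgroup.closure_le]
  intro x hx
  obtain ⟨t, -, rfl⟩ := hall x hx
  obtain ⟨-, m, hm, e⟩ := hname 8 t
  show nameF a d δ 8 t ∈ M
  rw [e]
  exact mul_mem (mul_mem hm haM) (inv_mem hm)

/-- The image of a generator: the table column. -/
theorem exists_perm_rep :
    ∃ Φ : G →* Equiv.Perm (Fin 3510), Function.Injective Φ ∧
      Φ.range = Subgroup.closure ((fun i => Φ (gen d δ i)) '' {i | i < 13}) ∧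
      (∀ i, i < 13 → ∀ t : Fin 3510, (Φ (gen d δ i) t : ℕ) = eTgt (ent t i)) ∧
      ∀ g (t : Fin 3510), name a d δ (Φ g t) = g * name a d δ t * g⁻¹ := by
  classical
  obtain ⟨hbij, htop⟩ := numbering hC h
  let e : Fin 3510 ≃ D := Equiv.ofBijective (fun t => ⟨name a d δ t, hbij.mapsTo t.2⟩)
    ⟨fun s t hst => Fin.ext (hbij.injOn s.2 t.2 (congrArg Subtype.val hst)), fun x => by
      obtain ⟨t, ht, e'⟩ := hbij.surjOn x.2
      exact ⟨⟨t, ht⟩, Subtype.ext e'⟩⟩
  have he : ∀ t, (e t : G) = name a d δ t := fun t => rfl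
  let act : G → Equiv.Perm D := fun g =>
    { toFun := fun x => ⟨g * x * g⁻¹, conj_mem hC.tt g x.2⟩
      invFun := fun x => ⟨g⁻¹ * x * g, by simpa using conj_mem hC.tt g⁻¹ x.2⟩
      left_inv := fun x => Subtype.ext (show g⁻¹ * (g * x * g⁻¹) * g = x by group)
      right_inv := fun x => Subtype.ext (show g * (g⁻¹ * x * g) * g⁻¹ = x by group) }
  have hact : ∀ g (x : D), (act g x : G) = g * x * g⁻¹ := fun _ _ => rfl
  let Φ : G →* Equiv.Perm (Fin 3510) :=
    { toFun := fun g => e.trans ((act g).trans e.symm)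
      map_one' := by
        ext t
        simp only [Equiv.trans_apply, Equiv.Perm.coe_one, id]
        rw [show act 1 (e t) = e t from Subtype.ext (by rw [hact]; simp), Equiv.symm_apply_apply]
      map_mul' := fun g k => by
        refine Equiv.ext fun t => ?_
        simp only [Equiv.trans_apply, Equiv.Perm.mul_apply, Equiv.apply_symm_apply]
        exact congrArg e.symm (Subtype.ext (by simp only [hact]; group)) }
  have hΦ : ∀ g t, (e (Φ g t) : G) = g * e t * g⁻¹ := fun g t => by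
    show ((e (e.symm (act g (e t)))) : G) = _
    rw [Equiv.apply_symm_apply]; rfl
  refine ⟨Φ, ?_, ?_, fun i hi t => ?_, fun g t => by rw [← he, ← he]; exact hΦ g t⟩
  · rw [injective_iff_map_eq_one]
    intro g hg
    have hfix : ∀ x ∈ D, g * x * g⁻¹ = x := fun x hx => by
      obtain ⟨t, ht⟩ := e.surjective ⟨x, hx⟩
      have := hΦ g t
      rw [hg, Equiv.Perm.coe_one, id, ht] at this
      exact this.symm
    have hmem : g ∈ Subgroup.center G := by
      rw [Subgroup.mem_center_iff]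
      have hle : Subgroup.closure D ≤ Subgroup.centralizer {g} := by
        rw [Subgroup.closure_le]
        exact fun x hx => Subgroup.mem_centralizer_singleton_iff.2 (mul_inv_eq_iff_eq_mul.1 (hfix x hx)).symm
      rw [Gen.gen (D := D)] at hle
      exact fun k => Subgroup.mem_centralizer_singleton_iff.1 (hle (Subgroup.mem_top k))
    rwa [hC.center, Subgroup.mem_bot] at hmem
  · rw [← Set.image_image, ← MonoidHom.map_closure, htop, MonoidHom.range_eq_map]
  · obtain ⟨hlt, hs⟩ := ent_spec h t.2 hi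
    have := hΦ (gen d δ i) t
    rw [he, he, inv_eq h.tt (gen_memD h i), hs] at this
    exact hbij.injOn (Φ _ t).2 hlt this

end Cfsg.Agent.TT95.Uni22

namespace Cfsg.Agent.TT95

open Uni22 in
/-- Uniqueness of type M(22). -/
theorem exists_iso22 {G₁ G₂ : Type*} [Group G₁] [Finite G₁] [Group G₂] [Finite G₂] {D₁ : Set G₁} {D₂ : Set G₂}
    (h₁ : Cfg22 D₁) [Gen D₁] (h₂ : Cfg22 D₂) [Gen D₂] {a₁ : G₁} (ha₁ : a₁ ∈ D₁) {a₂ : G₂} (ha₂ : a₂ ∈ D₂) :
    ∃ e : G₁ ≃* G₂, e '' D₁ = D₂ := by
  obtain ⟨d₁, δ₁, s₁⟩ := exists_std h₁ ha₁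
  obtain ⟨d₂, δ₂, s₂⟩ := exists_std h₂ ha₂
  obtain ⟨Φ₁, i₁, r₁, t₁, -⟩ := exists_perm_rep h₁ s₁
  obtain ⟨Φ₂, i₂, r₂, t₂, -⟩ := exists_perm_rep h₂ s₂
  have hg : ∀ i, i < 13 → Φ₁ (gen d₁ δ₁ i) = Φ₂ (gen d₂ δ₂ i) := fun i hi =>
    Equiv.ext fun t => Fin.ext ((t₁ i hi t).trans (t₂ i hi t).symm)
  have hr : Φ₁.range = Φ₂.range := by
    rw [r₁, r₂]
    exact congrArg _ (Set.image_congr fun i hi => hg i hi)
  let e : G₁ ≃* G₂ := (MonoidHom.ofInjective i₁).trans
    ((MulEquiv.subgroupCongr hr).trans (MonoidHom.ofInjective i₂).symm)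
  have he : ∀ x, Φ₂ (e x) = Φ₁ x := fun x => by
    show Φ₂ ((MonoidHom.ofInjective i₂).symm _) = _
    rw [MonoidHom.apply_ofInjective_symm]
    rfl
  have hgen : e (gen d₁ δ₁ 12) = gen d₂ δ₂ 12 := i₂ ((he _).trans (hg 12 (by norm_num)))
  refine ⟨e, Set.ext fun y => ⟨?_, fun hy => ?_⟩⟩
  · rintro ⟨x, hx, rfl⟩
    obtain ⟨g, hgx⟩ := h₁.one _ (gen_memD s₁ 12) x hx
    rw [← hgx, map_mul, map_mul, map_inv, hgen]
    exact conj_mem h₂.tt _ (gen_memD s₂ 12)
  · obtain ⟨g, hgy⟩ := h₂.one _ (gen_memD s₂ 12) y hy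
    exact ⟨e.symm g * gen d₁ δ₁ 12 * (e.symm g)⁻¹, conj_mem h₁.tt _ (gen_memD s₁ 12),
      by rw [map_mul, map_mul, map_inv, hgen, e.apply_symm_apply, hgy]⟩

end Cfsg.Agent.TT95
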