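import Mathlib.Data.Nat.Notation
import Mathlib.Data.List.Basic

/-! Certificates for the neighbourhood of a far transposition in type M(22). -/

set_option autoImplicit false

namespace Cfsg.Agent.TT95.Uni22

/-- Generators of the standard set of 126 points. -/
def g0 : List ℕ := [1936, 1, 2061, 2500, 2817, 912]

/-- Its derivation. -/
def g0Der : List (ℕ × ℕ) := [
  (0, 1), (1, 3), (2, 3), (0, 4), (2, 4), (3, 4), (0, 5), (1, 5), (4, 5), (3, 6),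
  (4, 6), (2, 7), (4, 7), (5, 7), (6, 8), (2, 9), (3, 9), (7, 9), (5, 10), (6, 10),
  (5, 11), (6, 11), (4, 13), (8, 13), (9, 13), (10, 13), (11, 13), (7, 14), (4, 15), (9, 15),
  (10, 15), (11, 15), (14, 15), (7, 16), (8, 16), (14, 17), (5, 18), (13, 18), (14, 18), (9, 19),
  (10, 19), (11, 19), (16, 19), (10, 20), (11, 20), (14, 20), (18, 20), (13, 21), (19, 21), (13, 22),
  (19, 22), (13, 23), (16, 24), (17, 24), (18, 24), (20, 24), (23, 24), (19, 25), (6, 26), (16, 26),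
  (17, 26), (20, 26), (23, 26), (25, 26), (14, 27), (19, 27), (24, 27), (20, 28), (21, 29), (23, 29),
  (25, 29), (27, 29), (18, 30), (22, 31), (23, 31), (23, 32), (21, 33), (24, 34), (29, 34), (31, 34),
  (31, 35), (26, 36), (28, 36), (29, 36), (30, 36), (32, 36), (29, 37), (31, 37), (25, 38), (31, 38),
  (29, 39), (26, 40), (32, 40), (35, 41), (39, 41), (36, 42), (25, 45), (31, 45), (30, 46), (21, 48),
  (30, 49), (33, 50), (38, 50), (42, 50), (45, 50), (31, 51), (32, 51), (43, 51), (39, 54), (43, 54),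
  (49, 57), (48, 59), (56, 60), (48, 61), (27, 62), (62, 64), (60, 65), (48, 69), (62, 71), (72, 75)]

/-- The standard set. -/
def s0 : List ℕ := [
  1936, 1, 2061, 2500, 2817, 912, 3697, 3657, 457, 3217, 260, 709, 1024, 625,
  2193, 57, 1249, 901, 397, 3129, 1045, 2276, 1365, 436, 228, 3193, 341, 3252,
  3297, 21, 1281, 121, 180, 3508, 1572, 2157, 561, 877, 1108, 1364, 3860, 2836,
  109, 340, 3620, 84, 3633, 2925, 85, 1297, 1744, 3204, 2913, 3593, 65, 1828,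
  653, 965, 1029, 865, 273, 1265, 336, 64, 3876, 3641, 720, 1344, 569, 1588,
  3145, 1109, 1092, 2125, 2289, 717, 1185, 3233, 2244, 2612, 461, 256, 1360, 2880,
  2861, 2881, 1093, 905, 1361, 813, 2849, 645, 393, 337, 2093, 2257, 1345, 3649,
  1348, 1349, 3648, 969, 3281, 45, 801, 2225, 16, 4, 2532, 2829, 2868, 1201,
  1040, 1844, 1301, 277, 3705, 633, 484, 3081, 3604, 3460, 2580, 2893, 1285, 3585]

/-- A step of the case analysis. -/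
inductive Kind : Type where
  | dup (x y z : ℕ)
  | leaf (k : ℕ) (w idx : List ℕ)
  | branch (x y : ℕ) (opts sep children : List ℕ)

/-- A case: known points, derived points, the step. -/
structure Node : Type where
  base : List ℕ
  der : List (ℕ × ℕ)
  kind : Kind

/-- The cases. -/
def nodes : List Node := [
  ⟨[1, 4, 16], [], .branch 0 20 [20, 21, 41, 61] [4, 1280, 16] [1, 2, 63, 124]⟩,
  ⟨[1, 4, 16, 20], [], .dup 1 3 2⟩,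
  ⟨[1, 4, 16, 21], [], .branch 0 25 [25, 45, 52, 53] [4, 1537, 16] [3, 4, 61, 62]⟩,
  ⟨[1, 4, 16, 21, 25], [], .dup 1 4 3⟩,
  ⟨[1, 4, 16, 21, 45], [], .branch 0 29 [29, 36, 37, 57] [4, 1793, 16] [5, 6, 7, 8]⟩,
  ⟨[1, 4, 16, 21, 45, 29], [], .dup 1 5 3⟩,
  ⟨[1, 4, 16, 21, 45, 36], [], .dup 1 5 2⟩,
  ⟨[1, 4, 16, 21, 45, 37], [], .dup 1 5 4⟩,
  ⟨[1, 4, 16, 21, 45, 57], [], .branch 0 256 [256, 257, 513, 769] [16, 1024, 256] [9, 22, 35, 48]⟩,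
  ⟨[1, 4, 16, 21, 45, 57, 256], [], .branch 1 1185 [1185, 1189, 1193, 1197] [49, 80, 1025] [10, 15, 16, 17]⟩,
  ⟨[1, 4, 16, 21, 45, 57, 256, 1185], [], .branch 0 1024 [1024, 1025, 2049, 3073] [4, 256, 1024] [11, 12, 13, 14]⟩,
  ⟨[1, 4, 16, 21, 45, 57, 256, 1185, 1024], [(1, 6), (4, 6), (5, 6), (0, 7), (2, 8), (3, 9), (4, 9), (7, 10), (8, 11), (4, 12), (4, 13), (12, 14), (13, 15), (17, 18)], .leaf 0 [] [20, 0, 19, 16, 21, 22]⟩,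
  ⟨[1, 4, 16, 21, 45, 57, 256, 1185, 1025], [(1, 6), (3, 6), (2, 7), (3, 7), (5, 8), (3, 9), (8, 10), (12, 13), (13, 14), (11, 15)], .dup 16 18 17⟩,
  ⟨[1, 4, 16, 21, 45, 57, 256, 1185, 2049], [(1, 6), (5, 6), (4, 8), (7, 8), (3, 9), (7, 11), (10, 11), (12, 13)], .dup 14 16 15⟩,
  ⟨[1, 4, 16, 21, 45, 57, 256, 1185, 3073], [(1, 6), (3, 6), (4, 6), (0, 7), (2, 7), (3, 7), (2, 8), (5, 8), (3, 9), (8, 10), (7, 11), (12, 15), (14, 15), (13, 17), (16, 17), (13, 18), (8, 19)], .leaf 0 [2125, 3765, 3473, 3765, 3245] [22, 20, 21, 24, 23, 25]⟩,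
  ⟨[1, 4, 16, 21, 45, 57, 256, 1189], [(1, 6), (3, 6), (0, 7), (2, 7), (9, 10), (8, 11)], .dup 7 13 12⟩,
  ⟨[1, 4, 16, 21, 45, 57, 256, 1193], [(1, 6), (4, 6), (0, 7), (2, 7), (9, 10), (8, 11)], .dup 7 13 12⟩,
  ⟨[1, 4, 16, 21, 45, 57, 256, 1197], [], .branch 0 1028 [1028, 1029, 2057, 3085] [4, 272, 1024] [18, 19, 20, 21]⟩,
  ⟨[1, 4, 16, 21, 45, 57, 256, 1197, 1028], [(1, 6), (4, 6), (0, 7), (3, 7), (4, 8), (7, 8), (7, 9), (8, 9), (8, 10), (3, 11), (6, 11), (14, 15), (12, 16), (13, 18)], .leaf 0 [3245, 3473, 2804, 3629, 3553] [2, 17, 21, 20, 19, 22]⟩,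
  ⟨[1, 4, 16, 21, 45, 57, 256, 1197, 1029], [(1, 6), (2, 7), (3, 7), (5, 8), (6, 8), (9, 12), (11, 12), (10, 13)], .dup 14 16 15⟩,
  ⟨[1, 4, 16, 21, 45, 57, 256, 1197, 2057], [(4, 7), (4, 8), (6, 8), (6, 10), (9, 10), (7, 11)], .dup 12 14 13⟩,
  ⟨[1, 4, 16, 21, 45, 57, 256, 1197, 3085], [(1, 6), (3, 6), (2, 7), (2, 8), (4, 8), (5, 8), (4, 9), (5, 9), (7, 9), (8, 9), (7, 13), (10, 14), (14, 16), (12, 17), (11, 18)], .leaf 0 [3765, 3245, 3473, 3245] [23, 15, 21, 20, 22, 19]⟩,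
  ⟨[1, 4, 16, 21, 45, 57, 257], [], .branch 1 1156 [1156, 2244, 3136, 3140] [49, 64, 1024] [23, 28, 29, 30]⟩,
  ⟨[1, 4, 16, 21, 45, 57, 257, 1156], [], .branch 0 1024 [1024, 1025, 2049, 3073] [4, 256, 1024] [24, 25, 26, 27]⟩,
  ⟨[1, 4, 16, 21, 45, 57, 257, 1156, 1024], [(1, 6), (3, 6), (4, 6), (3, 7), (3, 8), (4, 8), (5, 8), (5, 9), (8, 12), (9, 13), (12, 14), (10, 15), (14, 16), (11, 17)], .leaf 0 [3629, 2804, 3629, 693] [18, 4, 22, 21, 20, 19]⟩,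
  ⟨[1, 4, 16, 21, 45, 57, 257, 1156, 1025], [(4, 6), (5, 6), (0, 7), (2, 8), (7, 8), (9, 12), (11, 12), (10, 13)], .dup 14 16 15⟩,
  ⟨[1, 4, 16, 21, 45, 57, 257, 1156, 2049], [(3, 6), (5, 6), (0, 7), (2, 8), (7, 8), (9, 12), (11, 12), (10, 13)], .dup 14 16 15⟩,
  ⟨[1, 4, 16, 21, 45, 57, 257, 1156, 3073], [(1, 6), (3, 6), (5, 6), (0, 7), (4, 7), (2, 8), (5, 8), (7, 8), (4, 9), (7, 9), (8, 10), (7, 11), (3, 12), (13, 14), (16, 17), (18, 19), (14, 21), (15, 21), (20, 22)], .leaf 0 [3553, 3245, 3765] [23, 27, 25, 24, 15, 26]⟩,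
  ⟨[1, 4, 16, 21, 45, 57, 257, 2244], [(1, 6), (3, 6), (0, 7), (2, 7), (9, 10), (8, 11)], .dup 7 13 12⟩,
  ⟨[1, 4, 16, 21, 45, 57, 257, 3136], [(1, 6), (4, 6), (0, 7), (2, 7), (9, 10), (8, 11)], .dup 7 13 12⟩,
  ⟨[1, 4, 16, 21, 45, 57, 257, 3140], [], .branch 0 1028 [1028, 1029, 2057, 3085] [4, 272, 1024] [31, 32, 33, 34]⟩,
  ⟨[1, 4, 16, 21, 45, 57, 257, 3140, 1028], [(1, 6), (0, 7), (2, 7), (3, 7), (3, 8), (5, 8), (8, 9), (3, 10), (4, 10), (11, 13), (9, 14), (14, 16), (15, 17)], .leaf 0 [3473, 320, 2804, 1360, 3245] [21, 6, 18, 20, 19, 12]⟩,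
  ⟨[1, 4, 16, 21, 45, 57, 257, 3140, 1029], [(5, 6), (2, 7), (2, 8), (5, 8), (6, 8), (9, 11), (10, 12), (7, 13)], .dup 14 16 15⟩,
  ⟨[1, 4, 16, 21, 45, 57, 257, 3140, 2057], [(5, 6), (2, 7), (2, 8), (5, 8), (6, 8), (9, 11), (7, 12), (10, 13)], .dup 14 16 15⟩,
  ⟨[1, 4, 16, 21, 45, 57, 257, 3140, 3085], [(1, 6), (3, 6), (4, 6), (0, 7), (2, 8), (4, 8), (5, 8), (6, 8), (7, 10), (7, 11), (3, 12), (11, 13), (9, 14), (9, 15), (16, 17), (19, 20)], .leaf 0 [2125, 3245, 1360, 3473, 3553] [22, 18, 21, 11, 24, 23]⟩,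
  ⟨[1, 4, 16, 21, 45, 57, 513], [], .branch 1 1088 [1088, 1092, 2180, 3268] [17, 64, 1024] [36, 37, 38, 43]⟩,
  ⟨[1, 4, 16, 21, 45, 57, 513, 1088], [(1, 6), (4, 6), (0, 7), (2, 7), (9, 10), (8, 11)], .dup 7 13 12⟩,
  ⟨[1, 4, 16, 21, 45, 57, 513, 1092], [(1, 6), (5, 6), (0, 7), (2, 7), (9, 10), (8, 11)], .dup 7 13 12⟩,
  ⟨[1, 4, 16, 21, 45, 57, 513, 2180], [], .branch 0 1033 [1033, 2061, 3076, 3077] [4, 305, 1024] [39, 40, 41, 42]⟩,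
  ⟨[1, 4, 16, 21, 45, 57, 513, 2180, 1033], [(3, 6), (6, 7), (3, 8), (6, 8), (9, 11), (10, 11), (7, 12)], .dup 13 15 14⟩,
  ⟨[1, 4, 16, 21, 45, 57, 513, 2180, 2061], [(1, 6), (3, 6), (2, 7), (6, 7), (2, 8), (3, 8), (4, 8), (3, 9), (8, 10), (10, 13), (6, 14), (12, 15), (11, 17)], .leaf 0 [3473, 3245, 693, 3553] [8, 19, 18, 20, 21, 16]⟩,
  ⟨[1, 4, 16, 21, 45, 57, 513, 2180, 3076], [(1, 6), (2, 7), (4, 7), (3, 8), (6, 8), (9, 12), (11, 12), (10, 13)], .dup 14 16 15⟩,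
  ⟨[1, 4, 16, 21, 45, 57, 513, 2180, 3077], [(1, 6), (3, 6), (5, 6), (0, 7), (2, 7), (5, 8), (7, 8), (8, 9), (8, 10), (8, 11), (2, 12), (5, 12), (13, 16), (15, 19), (18, 19), (14, 20), (17, 20)], .leaf 0 [2125, 3765, 3473, 3765] [23, 24, 22, 25, 16, 21]⟩,
  ⟨[1, 4, 16, 21, 45, 57, 513, 3268], [], .branch 0 1024 [1024, 1025, 2049, 3073] [4, 256, 1024] [44, 45, 46, 47]⟩,
  ⟨[1, 4, 16, 21, 45, 57, 513, 3268, 1024], [(3, 6), (4, 6), (4, 7), (5, 7), (2, 8), (8, 9), (10, 13), (12, 13), (11, 14)], .dup 15 17 16⟩,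
  ⟨[1, 4, 16, 21, 45, 57, 513, 3268, 1025], [(1, 6), (5, 6), (4, 8), (7, 8), (3, 9), (7, 11), (10, 12), (11, 13)], .dup 14 16 15⟩,
  ⟨[1, 4, 16, 21, 45, 57, 513, 3268, 2049], [(1, 6), (4, 6), (5, 6), (0, 7), (2, 7), (4, 7), (5, 8), (7, 8), (3, 9), (4, 9), (8, 10), (8, 11), (4, 12), (8, 13), (8, 14), (15, 17), (16, 18), (13, 20), (19, 21)], .leaf 0 [2125, 3245] [25, 22, 23, 26, 24, 27]⟩,
  ⟨[1, 4, 16, 21, 45, 57, 513, 3268, 3073], [(1, 6), (5, 6), (0, 7), (2, 7), (5, 7), (4, 8), (5, 8), (7, 8), (4, 9), (5, 9), (10, 11), (8, 12), (8, 13), (10, 14), (11, 15), (16, 18), (14, 19), (17, 20), (17, 21)], .leaf 0 [2125, 3765, 3245, 3473] [26, 24, 27, 25, 22, 23]⟩,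
  ⟨[1, 4, 16, 21, 45, 57, 769], [], .branch 1 1088 [1088, 1092, 2180, 3268] [17, 64, 1024] [49, 50, 51, 56]⟩,
  ⟨[1, 4, 16, 21, 45, 57, 769, 1088], [(1, 6), (5, 6), (0, 7), (2, 7), (9, 10), (8, 11)], .dup 7 13 12⟩,
  ⟨[1, 4, 16, 21, 45, 57, 769, 1092], [(1, 6), (4, 6), (0, 7), (2, 7), (9, 10), (8, 11)], .dup 7 13 12⟩,
  ⟨[1, 4, 16, 21, 45, 57, 769, 2180], [], .branch 0 1024 [1024, 1025, 2049, 3073] [4, 256, 1024] [52, 53, 54, 55]⟩,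
  ⟨[1, 4, 16, 21, 45, 57, 769, 2180, 1024], [(3, 6), (4, 6), (4, 7), (5, 7), (2, 8), (8, 9), (10, 13), (12, 13), (11, 14)], .dup 15 17 16⟩,
  ⟨[1, 4, 16, 21, 45, 57, 769, 2180, 1025], [(1, 6), (5, 6), (4, 8), (7, 8), (3, 9), (7, 11), (10, 12), (11, 13)], .dup 14 16 15⟩,
  ⟨[1, 4, 16, 21, 45, 57, 769, 2180, 2049], [(1, 6), (4, 6), (5, 6), (2, 7), (4, 7), (2, 8), (3, 8), (4, 8), (7, 10), (7, 11), (9, 13), (12, 14), (11, 15)], .leaf 0 [1360, 3629, 693, 2804, 3245] [17, 19, 20, 18, 21, 16]⟩,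
  ⟨[1, 4, 16, 21, 45, 57, 769, 2180, 3073], [(1, 6), (5, 6), (4, 7), (5, 7), (3, 8), (7, 8), (4, 9), (5, 9), (7, 10), (8, 12), (7, 13), (12, 13), (14, 17), (15, 18)], .leaf 0 [3765, 3473, 3245, 1360, 3473, 3553] [22, 20, 11, 19, 21, 16]⟩,
  ⟨[1, 4, 16, 21, 45, 57, 769, 3268], [], .branch 0 1033 [1033, 2061, 3076, 3077] [4, 305, 1024] [57, 58, 59, 60]⟩,
  ⟨[1, 4, 16, 21, 45, 57, 769, 3268, 1033], [(3, 6), (6, 7), (3, 8), (6, 8), (9, 11), (10, 11), (7, 12)], .dup 13 15 14⟩,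
  ⟨[1, 4, 16, 21, 45, 57, 769, 3268, 2061], [(1, 6), (4, 6), (5, 6), (0, 7), (5, 8), (5, 9), (7, 9), (8, 11), (2, 12), (8, 12), (10, 13), (11, 13), (16, 17), (14, 18)], .leaf 0 [2125, 1360, 3473, 3553] [20, 22, 19, 14, 15, 21]⟩,
  ⟨[1, 4, 16, 21, 45, 57, 769, 3268, 3076], [(1, 6), (2, 7), (4, 7), (3, 8), (6, 8), (9, 12), (11, 12), (10, 13)], .dup 14 16 15⟩,
  ⟨[1, 4, 16, 21, 45, 57, 769, 3268, 3077], [(1, 6), (3, 6), (5, 6), (4, 7), (2, 8), (4, 8), (7, 8), (5, 9), (8, 10), (11, 12), (12, 13), (14, 16), (15, 18)], .leaf 0 [3765, 2125, 3553, 3245] [17, 20, 21, 19, 7, 2]⟩,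
  ⟨[1, 4, 16, 21, 52], [], .dup 1 4 2⟩,
  ⟨[1, 4, 16, 21, 53], [], .dup 2 4 3⟩,
  ⟨[1, 4, 16, 41], [], .branch 0 25 [25, 45, 52, 53] [4, 1537, 16] [64, 65, 66, 67]⟩,
  ⟨[1, 4, 16, 41, 25], [], .dup 2 4 3⟩,
  ⟨[1, 4, 16, 41, 45], [], .dup 1 4 3⟩,
  ⟨[1, 4, 16, 41, 52], [], .dup 1 4 2⟩,
  ⟨[1, 4, 16, 41, 53], [], .branch 0 29 [29, 36, 37, 57] [4, 1793, 16] [68, 121, 122, 123]⟩,
  ⟨[1, 4, 16, 41, 53, 29], [], .branch 0 256 [256, 257, 513, 769] [16, 1024, 256] [69, 82, 95, 108]⟩,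
  ⟨[1, 4, 16, 41, 53, 29, 256], [], .branch 1 1089 [1089, 1093, 1097, 1101] [17, 65, 1024] [70, 75, 76, 77]⟩,
  ⟨[1, 4, 16, 41, 53, 29, 256, 1089], [], .branch 0 1024 [1024, 1025, 2049, 3073] [4, 256, 1024] [71, 72, 73, 74]⟩,
  ⟨[1, 4, 16, 41, 53, 29, 256, 1089, 1024], [(1, 6), (3, 6), (2, 7), (3, 7), (5, 8), (3, 9), (8, 10), (12, 13), (13, 14), (11, 15)], .dup 16 18 17⟩,
  ⟨[1, 4, 16, 41, 53, 29, 256, 1089, 1025], [(1, 6), (5, 6), (4, 8), (7, 8), (3, 9), (7, 11), (10, 11), (12, 13)], .dup 14 16 15⟩,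
  ⟨[1, 4, 16, 41, 53, 29, 256, 1089, 2049], [(1, 6), (4, 6), (0, 7), (2, 7), (3, 7), (2, 8), (4, 8), (3, 9), (5, 9), (8, 10), (2, 11), (8, 12), (9, 13), (14, 16), (15, 19), (18, 19), (17, 20)], .leaf 2 [3629, 2125, 3765, 3245, 693] [24, 11, 21, 25, 22, 23]⟩,
  ⟨[1, 4, 16, 41, 53, 29, 256, 1089, 3073], [(1, 6), (3, 6), (4, 6), (0, 7), (2, 7), (2, 8), (3, 8), (7, 8), (3, 9), (8, 10), (2, 12), (11, 12), (7, 14), (13, 18), (16, 19), (15, 20), (18, 20)], .leaf 2 [2804, 3473, 2804, 3629, 1360, 693] [17, 23, 25, 24, 22, 21]⟩,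
  ⟨[1, 4, 16, 41, 53, 29, 256, 1093], [(1, 6), (3, 6), (0, 7), (2, 7), (9, 10), (8, 11)], .dup 7 13 12⟩,
  ⟨[1, 4, 16, 41, 53, 29, 256, 1097], [(1, 6), (4, 6), (0, 7), (2, 7), (9, 10), (8, 11)], .dup 7 13 12⟩,
  ⟨[1, 4, 16, 41, 53, 29, 256, 1101], [], .branch 0 1028 [1028, 1029, 2057, 3085] [4, 272, 1024] [78, 79, 80, 81]⟩,
  ⟨[1, 4, 16, 41, 53, 29, 256, 1101, 1028], [(1, 6), (2, 7), (3, 7), (5, 8), (6, 8), (9, 12), (11, 12), (10, 13)], .dup 14 16 15⟩,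
  ⟨[1, 4, 16, 41, 53, 29, 256, 1101, 1029], [(4, 7), (4, 8), (6, 8), (6, 10), (9, 10), (7, 11)], .dup 12 14 13⟩,
  ⟨[1, 4, 16, 41, 53, 29, 256, 1101, 2057], [(1, 6), (6, 7), (2, 8), (3, 8), (4, 8), (5, 9), (7, 9), (8, 10), (4, 11), (6, 13), (8, 15), (14, 16)], .leaf 2 [3245, 693, 2125, 1360, 693, 1360] [19, 20, 17, 12, 7, 18]⟩,
  ⟨[1, 4, 16, 41, 53, 29, 256, 1101, 3085], [(1, 6), (5, 6), (0, 7), (2, 8), (8, 9), (8, 10), (2, 11), (10, 11), (10, 12), (13, 16)], .leaf 2 [3629, 3765, 2125, 320] [3, 14, 4, 18, 15, 17]⟩,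
  ⟨[1, 4, 16, 41, 53, 29, 257], [], .branch 1 1088 [1088, 1092, 2180, 3268] [17, 64, 1024] [83, 84, 89, 90]⟩,
  ⟨[1, 4, 16, 41, 53, 29, 257, 1088], [(1, 6), (3, 6), (0, 7), (2, 7), (9, 10), (8, 11)], .dup 7 13 12⟩,
  ⟨[1, 4, 16, 41, 53, 29, 257, 1092], [], .branch 0 1024 [1024, 1025, 2049, 3073] [4, 256, 1024] [85, 86, 87, 88]⟩,
  ⟨[1, 4, 16, 41, 53, 29, 257, 1092, 1024], [(1, 6), (3, 6), (2, 7), (3, 7), (5, 8), (3, 9), (8, 10), (12, 13), (13, 14), (11, 15)], .dup 16 18 17⟩,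
  ⟨[1, 4, 16, 41, 53, 29, 257, 1092, 1025], [(1, 6), (5, 6), (4, 8), (7, 8), (3, 9), (7, 11), (10, 11), (12, 13)], .dup 14 16 15⟩,
  ⟨[1, 4, 16, 41, 53, 29, 257, 1092, 2049], [(3, 6), (5, 6), (2, 7), (2, 8), (3, 8), (4, 8), (7, 9), (8, 10), (13, 15), (11, 16)], .leaf 2 [1360, 3629, 2804, 3473, 3765] [6, 14, 12, 2, 18, 17]⟩,
  ⟨[1, 4, 16, 41, 53, 29, 257, 1092, 3073], [(1, 6), (3, 6), (5, 6), (0, 7), (3, 7), (2, 8), (4, 8), (3, 9), (8, 11), (3, 12), (13, 14), (10, 15), (12, 16), (17, 18), (16, 19)], .leaf 2 [3473, 3629, 3245, 693, 1360] [5, 23, 20, 22, 14, 21]⟩,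
  ⟨[1, 4, 16, 41, 53, 29, 257, 2180], [(1, 6), (4, 6), (0, 7), (2, 7), (9, 10), (8, 11)], .dup 7 13 12⟩,
  ⟨[1, 4, 16, 41, 53, 29, 257, 3268], [], .branch 0 1028 [1028, 1029, 2057, 3085] [4, 272, 1024] [91, 92, 93, 94]⟩,
  ⟨[1, 4, 16, 41, 53, 29, 257, 3268, 1028], [(1, 6), (2, 7), (3, 7), (5, 8), (6, 8), (9, 12), (11, 12), (10, 13)], .dup 14 16 15⟩,
  ⟨[1, 4, 16, 41, 53, 29, 257, 3268, 1029], [(4, 7), (4, 8), (6, 8), (6, 10), (9, 10), (7, 11)], .dup 12 14 13⟩,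
  ⟨[1, 4, 16, 41, 53, 29, 257, 3268, 2057], [(1, 6), (4, 6), (6, 7), (3, 8), (4, 8), (5, 8), (7, 8), (5, 9), (8, 11), (10, 12), (10, 13), (9, 14), (10, 15), (16, 17)], .leaf 2 [320, 693, 2804, 3245, 3473] [22, 18, 20, 21, 19, 6]⟩,
  ⟨[1, 4, 16, 41, 53, 29, 257, 3268, 3085], [(1, 6), (4, 6), (5, 6), (0, 7), (2, 7), (6, 8), (7, 8), (8, 10), (7, 11), (2, 12), (6, 13), (13, 16), (14, 17), (15, 19)], .leaf 2 [3473, 3765, 1360, 693] [20, 9, 22, 18, 15, 21]⟩,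
  ⟨[1, 4, 16, 41, 53, 29, 513], [], .branch 1 1088 [1088, 1092, 2180, 3268] [17, 64, 1024] [96, 97, 102, 103]⟩,
  ⟨[1, 4, 16, 41, 53, 29, 513, 1088], [(1, 6), (4, 6), (0, 7), (2, 7), (9, 10), (8, 11)], .dup 7 13 12⟩,
  ⟨[1, 4, 16, 41, 53, 29, 513, 1092], [], .branch 0 1028 [1028, 1029, 2057, 3085] [4, 272, 1024] [98, 99, 100, 101]⟩,
  ⟨[1, 4, 16, 41, 53, 29, 513, 1092, 1028], [(1, 6), (2, 7), (3, 7), (5, 8), (6, 8), (9, 12), (11, 12), (10, 13)], .dup 14 16 15⟩,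
  ⟨[1, 4, 16, 41, 53, 29, 513, 1092, 1029], [(4, 7), (4, 8), (6, 8), (6, 10), (9, 10), (7, 11)], .dup 12 14 13⟩,
  ⟨[1, 4, 16, 41, 53, 29, 513, 1092, 2057], [(1, 6), (0, 7), (2, 7), (3, 7), (4, 7), (2, 8), (4, 8), (5, 8), (6, 8), (7, 8), (4, 9), (6, 10), (13, 14), (9, 15), (12, 15), (11, 16), (17, 19), (18, 20)], .leaf 2 [2804, 3473, 693, 3765, 3629] [22, 26, 21, 23, 24, 25]⟩,
  ⟨[1, 4, 16, 41, 53, 29, 513, 1092, 3085], [(1, 6), (5, 6), (0, 7), (2, 7), (3, 7), (2, 8), (4, 8), (5, 8), (8, 9), (10, 11), (9, 14), (13, 15), (11, 16), (12, 17), (17, 18)], .leaf 2 [1360, 693, 3245, 3473] [23, 22, 21, 20, 11, 19]⟩,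
  ⟨[1, 4, 16, 41, 53, 29, 513, 2180], [(1, 6), (3, 6), (0, 7), (2, 7), (9, 10), (8, 11)], .dup 7 13 12⟩,
  ⟨[1, 4, 16, 41, 53, 29, 513, 3268], [], .branch 0 1024 [1024, 1025, 2049, 3073] [4, 256, 1024] [104, 105, 106, 107]⟩,
  ⟨[1, 4, 16, 41, 53, 29, 513, 3268, 1024], [(1, 6), (3, 6), (2, 7), (3, 7), (5, 8), (3, 9), (8, 10), (12, 13), (13, 14), (11, 15)], .dup 16 18 17⟩,
  ⟨[1, 4, 16, 41, 53, 29, 513, 3268, 1025], [(1, 6), (5, 6), (4, 8), (7, 8), (3, 9), (7, 11), (10, 11), (12, 13)], .dup 14 16 15⟩,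
  ⟨[1, 4, 16, 41, 53, 29, 513, 3268, 2049], [(3, 6), (5, 6), (0, 7), (2, 7), (3, 7), (4, 7), (2, 8), (3, 8), (8, 9), (8, 10), (8, 13), (9, 15), (14, 16), (11, 17), (13, 17), (12, 18)], .leaf 2 [3629, 2125, 693, 3765] [23, 19, 24, 22, 20, 21]⟩,
  ⟨[1, 4, 16, 41, 53, 29, 513, 3268, 3073], [(3, 6), (5, 6), (0, 7), (3, 7), (2, 8), (4, 8), (7, 8), (7, 9), (2, 11), (4, 11), (10, 12), (13, 16), (15, 17), (14, 18)], .leaf 2 [3629, 3245, 1360] [20, 21, 22, 14, 19, 16]⟩,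
  ⟨[1, 4, 16, 41, 53, 29, 769], [], .branch 1 1089 [1089, 1093, 1097, 1101] [17, 65, 1024] [109, 114, 115, 116]⟩,
  ⟨[1, 4, 16, 41, 53, 29, 769, 1089], [], .branch 0 1028 [1028, 1029, 2057, 3085] [4, 272, 1024] [110, 111, 112, 113]⟩,
  ⟨[1, 4, 16, 41, 53, 29, 769, 1089, 1028], [(1, 6), (2, 7), (3, 7), (5, 8), (6, 8), (9, 12), (11, 12), (10, 13)], .dup 14 16 15⟩,
  ⟨[1, 4, 16, 41, 53, 29, 769, 1089, 1029], [(4, 7), (4, 8), (6, 8), (6, 10), (9, 10), (7, 11)], .dup 12 14 13⟩,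
  ⟨[1, 4, 16, 41, 53, 29, 769, 1089, 2057], [(1, 6), (4, 6), (0, 7), (2, 7), (4, 8), (6, 8), (8, 10), (3, 11), (4, 11), (9, 13), (14, 16), (15, 17)], .leaf 2 [3473, 320, 2804, 3629, 1360] [18, 2, 19, 12, 20, 11]⟩,
  ⟨[1, 4, 16, 41, 53, 29, 769, 1089, 3085], [(1, 6), (5, 6), (0, 7), (4, 7), (6, 7), (2, 8), (3, 8), (8, 9), (2, 11), (10, 11), (11, 14), (12, 15), (16, 17)], .leaf 2 [3629, 3553, 3765, 1360, 3629] [21, 13, 15, 20, 18, 19]⟩,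
  ⟨[1, 4, 16, 41, 53, 29, 769, 1093], [(1, 6), (4, 6), (0, 7), (2, 7), (9, 10), (8, 11)], .dup 7 13 12⟩,
  ⟨[1, 4, 16, 41, 53, 29, 769, 1097], [(1, 6), (3, 6), (0, 7), (2, 7), (9, 10), (8, 11)], .dup 7 13 12⟩,
  ⟨[1, 4, 16, 41, 53, 29, 769, 1101], [], .branch 0 1024 [1024, 1025, 2049, 3073] [4, 256, 1024] [117, 118, 119, 120]⟩,
  ⟨[1, 4, 16, 41, 53, 29, 769, 1101, 1024], [(1, 6), (3, 6), (2, 7), (3, 7), (5, 8), (3, 9), (8, 10), (12, 13), (13, 14), (11, 15)], .dup 16 18 17⟩,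
  ⟨[1, 4, 16, 41, 53, 29, 769, 1101, 1025], [(1, 6), (5, 6), (4, 8), (7, 8), (3, 9), (7, 11), (10, 11), (12, 13)], .dup 14 16 15⟩,
  ⟨[1, 4, 16, 41, 53, 29, 769, 1101, 2049], [(1, 6), (3, 6), (4, 6), (0, 7), (2, 7), (3, 7), (2, 8), (3, 8), (4, 8), (3, 9), (7, 10), (11, 12), (5, 15), (13, 17), (14, 17), (12, 18), (16, 19)], .leaf 2 [3245, 2125, 320, 1360] [25, 22, 23, 21, 24, 20]⟩,
  ⟨[1, 4, 16, 41, 53, 29, 769, 1101, 3073], [(1, 6), (3, 6), (4, 6), (0, 7), (4, 8), (5, 8), (5, 9), (8, 10), (2, 12), (4, 12), (10, 13), (7, 14), (13, 15), (16, 17)], .leaf 2 [3765, 1360, 3629, 1360] [20, 18, 11, 22, 21, 19]⟩,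
  ⟨[1, 4, 16, 41, 53, 36], [], .dup 1 5 2⟩,
  ⟨[1, 4, 16, 41, 53, 37], [], .dup 1 5 3⟩,
  ⟨[1, 4, 16, 41, 53, 57], [], .dup 1 5 4⟩,
  ⟨[1, 4, 16, 61], [], .branch 0 25 [25, 45, 52, 53] [4, 1537, 16] [125, 182, 183, 184]⟩,
  ⟨[1, 4, 16, 61, 25], [], .branch 0 29 [29, 36, 37, 57] [4, 1793, 16] [126, 127, 128, 181]⟩,
  ⟨[1, 4, 16, 61, 25, 29], [], .dup 1 5 4⟩,
  ⟨[1, 4, 16, 61, 25, 36], [], .dup 1 5 2⟩,
  ⟨[1, 4, 16, 61, 25, 37], [], .branch 0 256 [256, 257, 513, 769] [16, 1024, 256] [129, 142, 155, 168]⟩,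
  ⟨[1, 4, 16, 61, 25, 37, 256], [], .branch 1 1088 [1088, 1092, 2180, 3268] [17, 64, 1024] [130, 135, 136, 137]⟩,
  ⟨[1, 4, 16, 61, 25, 37, 256, 1088], [], .branch 0 1024 [1024, 1025, 2049, 3073] [4, 256, 1024] [131, 132, 133, 134]⟩,
  ⟨[1, 4, 16, 61, 25, 37, 256, 1088, 1024], [(1, 6), (3, 6), (2, 7), (3, 7), (4, 8), (3, 9), (8, 10), (12, 13), (13, 14), (11, 15)], .dup 16 18 17⟩,
  ⟨[1, 4, 16, 61, 25, 37, 256, 1088, 1025], [(1, 6), (4, 6), (5, 8), (7, 8), (3, 9), (7, 11), (10, 11), (12, 13)], .dup 14 16 15⟩,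
  ⟨[1, 4, 16, 61, 25, 37, 256, 1088, 2049], [(4, 6), (5, 6), (0, 7), (3, 7), (5, 7), (5, 8), (7, 8), (8, 10), (2, 11), (10, 11), (12, 14), (9, 15), (13, 16), (14, 18)], .leaf 1 [3629, 2804, 3473, 3765, 1360] [17, 21, 22, 1, 20, 19]⟩,
  ⟨[1, 4, 16, 61, 25, 37, 256, 1088, 3073], [(1, 6), (4, 6), (5, 6), (0, 7), (3, 7), (2, 8), (3, 8), (5, 9), (3, 12), (8, 13), (10, 14), (12, 15), (14, 16), (15, 17)], .leaf 1 [3765, 693, 3553, 3245, 3553] [11, 19, 20, 21, 22, 18]⟩,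
  ⟨[1, 4, 16, 61, 25, 37, 256, 1092], [(1, 6), (3, 6), (0, 7), (2, 7), (9, 10), (8, 11)], .dup 7 13 12⟩,
  ⟨[1, 4, 16, 61, 25, 37, 256, 2180], [(1, 6), (5, 6), (0, 7), (2, 7), (9, 10), (8, 11)], .dup 7 13 12⟩,
  ⟨[1, 4, 16, 61, 25, 37, 256, 3268], [], .branch 0 1028 [1028, 1029, 2057, 3085] [4, 272, 1024] [138, 139, 140, 141]⟩,
  ⟨[1, 4, 16, 61, 25, 37, 256, 3268, 1028], [(1, 6), (2, 7), (3, 7), (4, 8), (6, 8), (9, 12), (11, 12), (10, 13)], .dup 14 16 15⟩,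
  ⟨[1, 4, 16, 61, 25, 37, 256, 3268, 1029], [(4, 6), (6, 7), (4, 8), (6, 8), (9, 11), (10, 11), (7, 12)], .dup 13 15 14⟩,
  ⟨[1, 4, 16, 61, 25, 37, 256, 3268, 2057], [(4, 6), (5, 6), (0, 7), (2, 7), (2, 8), (3, 8), (8, 10), (8, 11), (9, 11), (6, 12), (7, 13), (11, 15), (12, 15), (14, 17), (16, 18)], .leaf 1 [2125, 3473, 3245, 693] [19, 23, 21, 22, 15, 20]⟩,
  ⟨[1, 4, 16, 61, 25, 37, 256, 3268, 3085], [(1, 6), (4, 6), (0, 7), (3, 8), (6, 8), (4, 9), (8, 10), (2, 11), (11, 12), (11, 13), (13, 14), (15, 16)], .leaf 1 [3765, 3473, 3245, 3553] [20, 18, 7, 19, 5, 17]⟩,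
  ⟨[1, 4, 16, 61, 25, 37, 257], [], .branch 1 1089 [1089, 1093, 1097, 1101] [17, 65, 1024] [143, 144, 149, 150]⟩,
  ⟨[1, 4, 16, 61, 25, 37, 257, 1089], [(1, 6), (3, 6), (0, 7), (2, 7), (9, 10), (8, 11)], .dup 7 13 12⟩,
  ⟨[1, 4, 16, 61, 25, 37, 257, 1093], [], .branch 0 1024 [1024, 1025, 2049, 3073] [4, 256, 1024] [145, 146, 147, 148]⟩,
  ⟨[1, 4, 16, 61, 25, 37, 257, 1093, 1024], [(1, 6), (3, 6), (2, 7), (3, 7), (4, 8), (3, 9), (8, 10), (12, 13), (13, 14), (11, 15)], .dup 16 18 17⟩,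
  ⟨[1, 4, 16, 61, 25, 37, 257, 1093, 1025], [(1, 6), (4, 6), (5, 8), (7, 8), (3, 9), (7, 11), (10, 11), (12, 13)], .dup 14 16 15⟩,
  ⟨[1, 4, 16, 61, 25, 37, 257, 1093, 2049], [(1, 6), (3, 6), (4, 6), (5, 6), (0, 7), (3, 7), (7, 8), (5, 9), (8, 10), (7, 12), (3, 13), (8, 13), (10, 13), (11, 14), (17, 18), (16, 20), (15, 22)], .leaf 1 [3245, 1360, 3473, 2125, 320, 3245] [24, 19, 25, 14, 23, 21]⟩,
  ⟨[1, 4, 16, 61, 25, 37, 257, 1093, 3073], [(1, 6), (4, 6), (0, 7), (5, 7), (3, 8), (4, 8), (7, 8), (3, 9), (4, 9), (7, 13), (11, 14), (10, 15), (11, 16), (13, 17)], .leaf 1 [3473, 320, 3765, 3553] [21, 22, 20, 12, 18, 19]⟩,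
  ⟨[1, 4, 16, 61, 25, 37, 257, 1097], [(1, 6), (5, 6), (0, 7), (2, 7), (9, 10), (8, 11)], .dup 7 13 12⟩,
  ⟨[1, 4, 16, 61, 25, 37, 257, 1101], [], .branch 0 1028 [1028, 1029, 2057, 3085] [4, 272, 1024] [151, 152, 153, 154]⟩,
  ⟨[1, 4, 16, 61, 25, 37, 257, 1101, 1028], [(1, 6), (2, 7), (3, 7), (4, 8), (6, 8), (9, 12), (11, 12), (10, 13)], .dup 14 16 15⟩,
  ⟨[1, 4, 16, 61, 25, 37, 257, 1101, 1029], [(4, 6), (6, 7), (4, 8), (6, 8), (9, 11), (10, 11), (7, 12)], .dup 13 15 14⟩,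
  ⟨[1, 4, 16, 61, 25, 37, 257, 1101, 2057], [(1, 6), (3, 6), (4, 6), (2, 7), (2, 8), (3, 8), (4, 8), (5, 9), (7, 11), (8, 12), (4, 13), (6, 13), (10, 15), (16, 18)], .leaf 1 [3765, 693, 3245, 1360, 3473] [20, 21, 17, 14, 19, 22]⟩,
  ⟨[1, 4, 16, 61, 25, 37, 257, 1101, 3085], [(4, 6), (0, 7), (6, 7), (2, 8), (5, 8), (6, 8), (6, 10), (3, 12), (9, 12), (11, 13), (14, 15)], .leaf 1 [3765, 3245, 1360] [14, 17, 18, 16, 5, 19]⟩,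
  ⟨[1, 4, 16, 61, 25, 37, 513], [], .branch 1 1088 [1088, 1092, 2180, 3268] [17, 64, 1024] [156, 161, 162, 163]⟩,
  ⟨[1, 4, 16, 61, 25, 37, 513, 1088], [], .branch 0 1028 [1028, 1029, 2057, 3085] [4, 272, 1024] [157, 158, 159, 160]⟩,
  ⟨[1, 4, 16, 61, 25, 37, 513, 1088, 1028], [(1, 6), (2, 7), (3, 7), (4, 8), (6, 8), (9, 12), (11, 12), (10, 13)], .dup 14 16 15⟩,
  ⟨[1, 4, 16, 61, 25, 37, 513, 1088, 1029], [(4, 6), (6, 7), (4, 8), (6, 8), (9, 11), (10, 11), (7, 12)], .dup 13 15 14⟩,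
  ⟨[1, 4, 16, 61, 25, 37, 513, 1088, 2057], [(1, 6), (0, 7), (2, 7), (2, 8), (4, 8), (6, 8), (7, 8), (2, 10), (9, 12), (9, 13), (11, 14), (15, 16)], .leaf 1 [3245, 693, 2125, 3473, 3245] [19, 14, 17, 20, 9, 18]⟩,
  ⟨[1, 4, 16, 61, 25, 37, 513, 1088, 3085], [(1, 6), (0, 7), (2, 7), (3, 7), (3, 8), (4, 8), (6, 8), (7, 9), (2, 10), (8, 11), (10, 13), (12, 13), (15, 16), (14, 17)], .leaf 1 [1360, 3473, 320, 3765] [18, 20, 21, 22, 19, 8]⟩,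
  ⟨[1, 4, 16, 61, 25, 37, 513, 1092], [(1, 6), (5, 6), (0, 7), (2, 7), (9, 10), (8, 11)], .dup 7 13 12⟩,
  ⟨[1, 4, 16, 61, 25, 37, 513, 2180], [(1, 6), (3, 6), (0, 7), (2, 7), (9, 10), (8, 11)], .dup 7 13 12⟩,
  ⟨[1, 4, 16, 61, 25, 37, 513, 3268], [], .branch 0 1024 [1024, 1025, 2049, 3073] [4, 256, 1024] [164, 165, 166, 167]⟩,
  ⟨[1, 4, 16, 61, 25, 37, 513, 3268, 1024], [(1, 6), (3, 6), (2, 7), (3, 7), (4, 8), (3, 9), (8, 10), (12, 13), (13, 14), (11, 15)], .dup 16 18 17⟩,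
  ⟨[1, 4, 16, 61, 25, 37, 513, 3268, 1025], [(1, 6), (4, 6), (5, 8), (7, 8), (3, 9), (7, 11), (10, 11), (12, 13)], .dup 14 16 15⟩,
  ⟨[1, 4, 16, 61, 25, 37, 513, 3268, 2049], [(1, 6), (5, 6), (5, 7), (2, 8), (3, 8), (5, 8), (4, 9), (7, 10), (5, 12), (7, 12), (11, 13), (13, 16), (14, 16), (15, 18)], .leaf 1 [3473, 3245, 2125, 3765, 1360] [7, 20, 21, 17, 22, 19]⟩,
  ⟨[1, 4, 16, 61, 25, 37, 513, 3268, 3073], [(1, 6), (0, 7), (3, 7), (5, 7), (2, 8), (3, 8), (7, 8), (3, 9), (4, 9), (3, 10), (9, 11), (4, 13), (12, 13), (15, 17), (14, 18), (15, 19)], .leaf 1 [3765, 1360, 3629, 3553] [21, 23, 22, 20, 16, 24]⟩,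
  ⟨[1, 4, 16, 61, 25, 37, 769], [], .branch 1 1089 [1089, 1093, 1097, 1101] [17, 65, 1024] [169, 170, 175, 176]⟩,
  ⟨[1, 4, 16, 61, 25, 37, 769, 1089], [(1, 6), (5, 6), (0, 7), (2, 7), (9, 10), (8, 11)], .dup 7 13 12⟩,
  ⟨[1, 4, 16, 61, 25, 37, 769, 1093], [], .branch 0 1028 [1028, 1029, 2057, 3085] [4, 272, 1024] [171, 172, 173, 174]⟩,
  ⟨[1, 4, 16, 61, 25, 37, 769, 1093, 1028], [(1, 6), (2, 7), (3, 7), (4, 8), (6, 8), (9, 12), (11, 12), (10, 13)], .dup 14 16 15⟩,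
  ⟨[1, 4, 16, 61, 25, 37, 769, 1093, 1029], [(4, 6), (6, 7), (4, 8), (6, 8), (9, 11), (10, 11), (7, 12)], .dup 13 15 14⟩,
  ⟨[1, 4, 16, 61, 25, 37, 769, 1093, 2057], [(1, 6), (4, 6), (0, 7), (2, 7), (7, 9), (5, 11), (8, 11), (6, 12), (10, 15)], .leaf 1 [320, 3473, 2125, 693, 3629] [13, 4, 14, 16, 17, 10]⟩,
  ⟨[1, 4, 16, 61, 25, 37, 769, 1093, 3085], [(1, 6), (4, 6), (0, 7), (3, 7), (4, 8), (5, 8), (7, 9), (7, 10), (6, 11), (10, 11), (14, 15)], .leaf 1 [3473, 2125, 1360, 3245] [13, 12, 17, 19, 18, 16]⟩,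
  ⟨[1, 4, 16, 61, 25, 37, 769, 1097], [(1, 6), (3, 6), (0, 7), (2, 7), (9, 10), (8, 11)], .dup 7 13 12⟩,
  ⟨[1, 4, 16, 61, 25, 37, 769, 1101], [], .branch 0 1024 [1024, 1025, 2049, 3073] [4, 256, 1024] [177, 178, 179, 180]⟩,
  ⟨[1, 4, 16, 61, 25, 37, 769, 1101, 1024], [(1, 6), (3, 6), (2, 7), (3, 7), (4, 8), (3, 9), (8, 10), (12, 13), (13, 14), (11, 15)], .dup 16 18 17⟩,
  ⟨[1, 4, 16, 61, 25, 37, 769, 1101, 1025], [(1, 6), (4, 6), (5, 8), (7, 8), (3, 9), (7, 11), (10, 11), (12, 13)], .dup 14 16 15⟩,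
  ⟨[1, 4, 16, 61, 25, 37, 769, 1101, 2049], [(1, 6), (5, 6), (0, 7), (2, 7), (2, 8), (4, 8), (3, 9), (4, 9), (8, 11), (7, 13), (10, 17), (15, 18)], .leaf 1 [320, 693, 3765, 3245, 1360] [12, 19, 16, 20, 5, 14]⟩,
  ⟨[1, 4, 16, 61, 25, 37, 769, 1101, 3073], [(1, 6), (3, 6), (2, 7), (3, 7), (2, 8), (3, 8), (5, 8), (7, 8), (3, 9), (5, 9), (7, 10), (8, 12), (11, 13), (9, 14), (15, 17), (16, 17), (16, 19), (18, 20)], .leaf 1 [3473, 3765, 3245, 693] [21, 26, 24, 22, 23, 25]⟩,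
  ⟨[1, 4, 16, 61, 25, 57], [], .dup 1 5 3⟩,
  ⟨[1, 4, 16, 61, 45], [], .dup 2 4 3⟩,
  ⟨[1, 4, 16, 61, 52], [], .dup 1 4 2⟩,
  ⟨[1, 4, 16, 61, 53], [], .dup 1 4 3⟩]

end Cfsg.Agent.TT95.Uni22
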