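import Cfsg.Agent.TT95.Uni22.Data
import Cfsg.Agent.TT95.Uni22.Tree
import Cfsg.Agent.TT95.U6Model

/-! Checkers for the certificates of the orbit of a transposition in type M(22). -/

set_option autoImplicit false

namespace Cfsg.Agent.TT95.Uni22

open Cfsg.Agent.TT95.U6

/-- Multiplication by a primitive cube root of one in the field with four elements. -/
def mulw (x : ℕ) : ℕ := [0, 2, 3, 1].getD x 0

/-- A diagonal automorphism of the point set. -/
def psi (x : ℕ) : ℕ := nrm (Nat.xor x (sc (mulw (h x 1057)) 1057))

/-- Its powers. -/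
def psiK : ℕ → ℕ → ℕ
  | 0, x => x
  | 1, x => psi x
  | _, x => psi (psi x)

/-- Membership in the standard set of 126 points. -/
noncomputable def inS (p : ℕ) : Bool := inMask (maskOf s0) p

/-- The table chunk of a point. -/
def chunk (c : ℕ) : ℕ := tabL.getD (Nat.shiftRight c 6) 0

/-- A table entry. -/
def ent (c g : ℕ) : ℕ := Nat.land (Nat.shiftRight (chunk c) (58 * (13 * (Nat.land c 63) + g))) 288230376151711743

def eTgt (e : ℕ) : ℕ := Nat.land e 4095
def eRank (e : ℕ) : ℕ := Nat.land (Nat.shiftRight e 12) 65535
def eKind (e : ℕ) : ℕ := Nat.land (Nat.shiftRight e 28) 3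
def eStart (e : ℕ) : ℕ := Nat.land (Nat.shiftRight e 30) 4095
def eRel (e : ℕ) : ℕ := Nat.land (Nat.shiftRight e 42) 1023
def ePos (e : ℕ) : ℕ := Nat.shiftRight e 52

/-- Parent entry: parent times 16 plus the generator. -/
def par2 (t : ℕ) : ℕ := Nat.land (Nat.shiftRight (parL.getD (Nat.shiftRight t 6) 0) (16 * Nat.land t 63)) 65535

def parP (t : ℕ) : ℕ := Nat.shiftRight (par2 t) 4
def parG (t : ℕ) : ℕ := Nat.land (par2 t) 15

/-- Follow a word through entries of rank less than `k`; 4095 on failure. -/
def walk (k : ℕ) : List ℕ → ℕ → ℕ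
  | [], c => c
  | g :: r, c => if Nat.blt c 3510 && Nat.blt g 13 && Nat.blt (eRank (ent c g)) k then walk k r (eTgt (ent c g)) else 4095

/-- The justification of one entry. -/
def entOK (c g : ℕ) : Bool :=
  let e := ent c g
  let t := eTgt e
  Nat.blt t 3510 &&
  match eKind e with
  | 0 => let r := rels.getD (eRel e) []
    let i := ePos e
    Nat.blt (eRel e) 629 && Nat.blt i r.length && Nat.blt (eStart e) 3510 && Nat.beq (r.getD i 0) g &&
      Nat.beq (walk (eRank e) (r.take i) (eStart e)) c &&
      Nat.beq (walk (eRank e) (r.drop (i + 1)).reverse (eStart e)) t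
  | 1 => Nat.beq (eTgt (ent t g)) c && Nat.blt (eRank (ent t g)) (eRank e)
  | 2 => Nat.beq c 0 && Nat.beq t 0 && Nat.blt g 12
  | _ => !Nat.beq t 0 && Nat.beq (parP t) c && Nat.beq (parG t) g

/-- The parent chain reaches the base within the given number of steps. -/
def reach0 : ℕ → ℕ → Bool
  | 0, t => Nat.beq t 0
  | f + 1, t => Nat.beq t 0 || (Nat.blt (parG t) 13 && Nat.blt (parP t) 3510 && reach0 f (parP t))

/-- Free reduction of a word in involutions. -/
def red : List ℕ → List ℕ
  | [] => []
  | x :: r => match red r with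
    | [] => [x]
    | y :: s => if Nat.beq x y then s else x :: y :: s

/-- Lists of naturals compared. -/
def eqL : List ℕ → List ℕ → Bool
  | [], [] => true
  | x :: r, y :: s => Nat.beq x y && eqL r s
  | _, _ => false

/-- The word of a point. -/
def wordOf (j : ℕ) : List ℕ := match words.getD j (0, [], 0) with
  | (_, u, x) => u ++ x :: u.reverse

/-- The point of a word. -/
def wordPt (j : ℕ) : ℕ := (words.getD j (0, [], 0)).1

/-- The value of a word evaluated in the model. -/
def wordOK (w : ℕ × List ℕ × ℕ) : Bool :=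
  match w with
  | (p, u, x) => isPt p && Nat.blt x 12 && u.all (fun i => Nat.blt i 12) &&
      Nat.beq ((u.map fun i => gX.getD i 0).foldr tv (gX.getD x 0)) p

/-- The word that a relator comes from. -/
noncomputable def relFull (c : ℕ × ℕ × ℕ × ℕ × List ℕ) : List ℕ :=
  match c with
  | (0, i, j, _, _) => if orth (gX.getD i 0) (gX.getD j 0) then [i, j, i, j] else [i, j, i, j, i, j]
  | (1, p, _, _, _) => let w := 12 :: wordOf p
      if inS (wordPt p) then w ++ w else w ++ w ++ w
  | (_, i, p, q, _) => i :: (wordOf p ++ i :: wordOf q)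

/-- A relator follows from its origin. -/
noncomputable def relOK (r : List ℕ) (c : ℕ × ℕ × ℕ × ℕ × List ℕ) : Bool :=
  r.all (fun i => Nat.blt i 13) &&
  match c with
  | (0, i, j, _, _) => Nat.blt i 12 && Nat.blt j 12 && eqL r (relFull c)
  | (1, p, _, _, _) => Nat.blt p 301 && eqL r (relFull c)
  | (_, i, p, q, pre) => Nat.blt i 12 && Nat.blt p 301 && Nat.blt q 301 &&
      Nat.beq (tv (gX.getD i 0) (wordPt p)) (wordPt q) && pre.all (fun i => Nat.blt i 13) &&
      eqL (red (pre ++ (r ++ pre.reverse))) (red (relFull c))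

/-- The points of a case. -/
def derive : List (ℕ × ℕ) → List ℕ → List ℕ
  | [], l => l
  | (i, j) :: r, l => derive r (l ++ [tv (l.getD i 0) (l.getD j 0)])

/-- The derivation steps are allowed. -/
def deriveOK : List (ℕ × ℕ) → List ℕ → Bool
  | [], _ => true
  | (i, j) :: r, l => Nat.blt i l.length && Nat.blt j l.length && !orth (l.getD i 0) (l.getD j 0) &&
      deriveOK r (l ++ [tv (l.getD i 0) (l.getD j 0)])

/-- The case analysis at one node. -/
noncomputable def nodeOK (n : ℕ) (N : Node) : Bool :=
  let l := derive N.der N.base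
  N.base.all isPt && deriveOK N.der N.base &&
  match N.kind with
  | .dup i j k => let x := l.getD i 0
      let y := l.getD j 0
      let z := l.getD k 0
      Nat.blt i l.length && Nat.blt j l.length && Nat.blt k l.length && orth y x && orth z x &&
        !Nat.beq y x && !Nat.beq z x && !Nat.beq y z &&
        allP (fun u => !orth u x || (orth u y == orth u z)) pts
  | .leaf k w idx => Nat.blt k 3 && w.all isPt && Nat.beq idx.length g0.length &&
      (List.range g0.length).all fun i => Nat.blt (idx.getD i 0) l.length &&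
        Nat.beq (w.foldr tv (psiK k (g0.getD i 0))) (l.getD (idx.getD i 0) 0)
  | .branch i y opts sep ch => let x := l.getD i 0
      Nat.blt i l.length && isPt y && orth y x && !Nat.beq y x && sep.all (fun u => isPt u && orth u x) &&
        Nat.beq opts.length ch.length &&
        ((List.range ch.length).all fun m => Nat.blt n (ch.getD m 0) && Nat.blt (ch.getD m 0) nodes.length &&
          (nodes.getD (ch.getD m 0) ⟨[], [], .dup 0 0 0⟩).base.all
            fun p => (opts.getD m 0 :: l).any (fun q => Nat.beq p q)) &&
        allP (fun z => !orth z x || Nat.beq z x || opts.any (fun q => Nat.beq z q) ||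
          sep.any (fun u => orth u y != orth u z)) pts

end Cfsg.Agent.TT95.Uni22
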