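import Cfsg.Agent.TT95.Uni22.Defs

/-! The table entries of the points from 0 on are justified. -/

set_option autoImplicit false

namespace Cfsg.Agent.TT95.Uni22

theorem ent_check0 : ((List.range 900).all fun c => (List.range 13).all fun g => entOK (0 + c) g) = true := by
  decide +kernel

end Cfsg.Agent.TT95.Uni22
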