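import Cfsg.Agent.TT95.Uni22.Rel
import Cfsg.Agent.TT95.Conn22
import Cfsg.Agent.TT95.Count
import Cfsg.Agent.TT95.Swap
import Cfsg.Agent.TT95.Hexad
import Cfsg.Agent.TT95.LayBase

/-!
Type M(22): some transvection numbering makes a far transposition commute exactly with the standard set
of 126 points.
-/

set_option autoImplicit false
set_option linter.unusedSectionVars false

namespace Cfsg.Agent.TT95.Uni22

open Cfsg.Agent.TT95.U6

variable {G : Type*} [Group G] [Finite G] {D : Set G} (hC : Cfg22 D)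

include hC

/-- On each common neighbour, the common neighbours of a non-edge meet every class of twins once. -/
theorem section_facts {a d w : G} (ha : a ∈ D) (hd : d ∈ far D a) (hw : w ∈ common D a d) :
    (∀ y z, y ∈ common D a d → z ∈ common D a d → y ∈ nb D w → z ∈ nb D w →
      (∀ u ∈ common D a w, Commute u y ↔ Commute u z) → y = z) ∧
    ∀ y ∈ common D a w, ∃ z, z ∈ common D a d ∧ z ∈ nb D w ∧ ∀ u ∈ common D a w, Commute u y ↔ Commute u z := by
  obtain ⟨⟨hwD, hwa, hawc⟩, -, hwd, hdwc⟩ := hw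
  obtain ⟨δ, hδ, da, dd⟩ := local_nonperp hC hwD (b := a) (c := d) ⟨ha, Ne.symm hwa, hawc.symm⟩
    ⟨hd.1, Ne.symm hwd, hdwc.symm⟩ hd.2
  have hR : ∀ y, y ∈ nb D a → y ∈ nb D w → ∃ r, isR r ∧ δ r = y := fun y hy hyw =>
    exists_isR hC hwD hδ da hy.1 hyw.2.2.symm hy.2.2.symm hyw.2.1 hy.2.1
  have hback : ∀ r, isR r → δ r ∈ nb D a ∧ δ r ∈ nb D w := fun r hr => by
    obtain ⟨c1, c2, c3⟩ := isR_commute hC hwD hδ da hr
    exact ⟨⟨(hδ.mem r hr.1).1, c3, c2.symm⟩, hδ.mem r hr.1⟩
  have hf : ∀ r, isR r → (δ r ∈ nb D d ↔ orth r f1 = true) := fun r hr => by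
    constructor
    · intro hm
      exact (hδ.comm r f1 hr.1 base_isPt.2.2.2.1).1 (by rw [dd]; exact hm.2.2.symm)
    · intro ho
      have hc : Commute (δ r) d := dd ▸ (hδ.comm r f1 hr.1 base_isPt.2.2.2.1).2 ho
      refine ⟨(hδ.mem r hr.1).1, fun e => hd.2 ?_, hc.symm⟩
      exact e ▸ (isR_commute hC hwD hδ da hr).2.1.symm
  have hkey : ∀ r s, isR r → isR s →
      (key r = key s ↔ ∀ u ∈ common D a w, Commute u (δ r) ↔ Commute u (δ s)) := fun r s hr hs => by
    rw [key_eq_iff hC hwD hδ da hr hs]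
    refine ⟨fun hh u hu => hh u hu.1.1 hu.2.2.2.symm hu.1.2.2.symm, fun hh u hu huw hua => ?_⟩
    by_cases e1' : u = w
    · subst e1'
      exact ⟨fun _ => (isR_commute hC hwD hδ da hs).1.symm, fun _ => (isR_commute hC hwD hδ da hr).1.symm⟩
    by_cases e2' : u = a
    · subst e2'
      exact ⟨fun _ => (isR_commute hC hwD hδ da hs).2.1.symm, fun _ => (isR_commute hC hwD hδ da hr).2.1.symm⟩
    exact hh u ⟨⟨hu, e2', hua.symm⟩, ⟨hu, e1', huw.symm⟩⟩
  refine ⟨fun y z hy hz hyw hzw hyz => ?_, fun y hy => ?_⟩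
  · obtain ⟨r, hr, rfl⟩ := hR y hy.1 hyw
    obtain ⟨s, hs, rfl⟩ := hR z hz.1 hzw
    have h1 := allP_iff.1 (allP_iff.1 sect_check.1 r (mem_perp1 hr)) s (mem_perp1 hs)
    rw [(hf r hr).1 hy.2, (hf s hs).1 hz.2, (hkey r s hr hs).2 hyz] at h1
    simp only [Bool.and_self, Nat.beq_refl, Bool.not_true, Bool.false_or] at h1
    rw [Nat.eq_of_beq_eq_true h1]
  · obtain ⟨r, hr, rfl⟩ := hR y hy.1 hy.2
    have h1 := allP_iff.1 sect_check.2 (key r) (List.mem_toFinset.1 (key_mem hr))
    simp only [List.any_eq_true, Bool.and_eq_true, Bool.not_eq_true'] at h1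
    obtain ⟨s, hs, ⟨hsf, hsk⟩, hs1⟩ := h1
    have hsR : isR s := isR_of_mem_perp1 hs (fun e => by rw [e] at hs1; simp at hs1)
    exact ⟨δ s, ⟨(hback s hsR).1, (hf s hsR).2 hsf⟩, (hback s hsR).2,
      (hkey r s hr hsR).1 (Nat.eq_of_beq_eq_true hsk).symm⟩

/-- A derivation keeps the points in the set. -/
theorem derive_mem {d : G} {γ : ℕ → G} {a : G} (hγ : IsLocal D a γ) :
    ∀ (L : List (ℕ × ℕ)) (l : List ℕ), deriveOK L l = true → (∀ p ∈ l, isPt p = true ∧ Commute d (γ p)) →
      ∀ p ∈ derive L l, isPt p = true ∧ Commute d (γ p)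
  | [], l, _, hl => hl
  | (i, j) :: L, l, hok, hl => by
    simp only [deriveOK, Bool.and_eq_true, Nat.blt_eq] at hok
    obtain ⟨⟨⟨hi, hj⟩, -⟩, hrest⟩ := hok
    have hmi : l.getD i 0 ∈ l := by rw [List.getD_eq_getElem _ _ hi]; exact List.getElem_mem hi
    have hmj : l.getD j 0 ∈ l := by rw [List.getD_eq_getElem _ _ hj]; exact List.getElem_mem hj
    refine derive_mem hγ L _ hrest fun p hp => ?_
    rcases List.mem_append.1 hp with hp | hp
    · exact hl p hp
    · obtain rfl := List.mem_singleton.1 hp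
      obtain ⟨p1, c1⟩ := hl _ hmi
      obtain ⟨p2, c2⟩ := hl _ hmj
      exact ⟨hγ.isPt_tv _ _ p1 p2, hγ.conj _ _ p1 p2 ▸ ((c1.mul_right c2).mul_right c1.inv_right)⟩

/-- The case analysis. -/
theorem exists_leaf {a d : G} (ha : a ∈ D) {γ : ℕ → G} (hγ : IsLocal D a γ) (hd : d ∈ far D a)
    (d1 : Commute d (γ 1)) (d4 : Commute d (γ 4)) (d16 : Commute d (γ 16)) :
    ∃ k w, k < 3 ∧ (∀ e ∈ w, isPt e = true) ∧
      ∀ g ∈ g0, Commute d (γ (List.foldr tv (psiK k g) w)) := by
  have hcom : ∀ p, isPt p = true → Commute d (γ p) → γ p ∈ common D a d := fun p hp hc => by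
    refine ⟨hγ.mem p hp, (hγ.mem p hp).1, fun e => hd.2 ?_, hc⟩
    exact e ▸ (hγ.mem p hp).2.2
  suffices hall : ∀ m n, n < 185 → 185 - n = m →
      (∀ p ∈ (nodes.getD n ⟨[], [], .dup 0 0 0⟩).base, isPt p = true ∧ Commute d (γ p)) →
      ∃ k w, k < 3 ∧ (∀ e ∈ w, isPt e = true) ∧ ∀ g ∈ g0, Commute d (γ (List.foldr tv (psiK k g) w)) by
    refine hall _ 0 (by norm_num) rfl fun p hp => ?_
    have h := List.all_eq_true.1 line_mem.2 p hp
    simp only [Bool.or_eq_true, beq_iff_eq] at h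
    obtain ⟨q1, q2, q3, -⟩ := base_isPt
    rcases h with (rfl | rfl) | rfl
    exacts [⟨q1, d1⟩, ⟨q2, d4⟩, ⟨q3, d16⟩]
  intro m
  induction m using Nat.strong_induction_on with
  | _ m ih =>
    intro n hn hm hb
    have hok := List.all_eq_true.1 nodes_check n (List.mem_range.2 hn)
    generalize hN : nodes.getD n ⟨[], [], .dup 0 0 0⟩ = N at hok hb
    obtain ⟨base, der, kind⟩ := N
    simp only [nodeOK, Bool.and_eq_true] at hok
    obtain ⟨⟨-, hder⟩, hk⟩ := hok
    have hl := derive_mem hC hγ der base hder hb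
    set l := derive der base with hl'
    have hget : ∀ i, i < l.length → isPt (l.getD i 0) = true ∧ Commute d (γ (l.getD i 0)) := fun i hi =>
      hl _ (by rw [List.getD_eq_getElem _ _ hi]; exact List.getElem_mem hi)
    have hnbx : ∀ {x y : ℕ}, isPt x = true → isPt y = true → orth y x = true → Nat.beq y x = false →
        γ y ∈ nb D (γ x) := fun {x y} hx hy ho hne =>
      ⟨(hγ.mem y hy).1, fun e => by rw [hγ.inj y x hy hx e] at hne; simp at hne,
        ((hγ.comm y x hy hx).2 ho).symm⟩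
    cases kind with
    | dup i j k =>
      simp only [Bool.and_eq_true, Nat.blt_eq, Bool.not_eq_true', allP_iff] at hk
      obtain ⟨⟨⟨⟨⟨⟨⟨⟨hi, hj⟩, hk'⟩, hyx⟩, hzx⟩, nyx⟩, nzx⟩, nyz⟩, hpat⟩ := hk
      obtain ⟨px, cx⟩ := hget i hi
      obtain ⟨py, cy⟩ := hget j hj
      obtain ⟨pz, cz⟩ := hget k hk'
      have h := (section_facts hC ha hd (hcom _ px cx)).1 _ _ (hcom _ py cy) (hcom _ pz cz)
        (hnbx px py hyx nyx) (hnbx px pz hzx nzx) fun u hu => by
          obtain ⟨q, hq, rfl⟩ := hγ.surj u hu.1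
          have hp := hpat q (mem_pts.2 hq)
          rw [(hγ.comm q _ hq px).1 hu.2.2.2.symm] at hp
          simp only [Bool.not_true, Bool.false_or, beq_iff_eq] at hp
          rw [hγ.comm q _ hq py, hγ.comm q _ hq pz, hp]
      rw [hγ.inj _ _ py pz h] at nyz
      simp at nyz
    | leaf k w idx =>
      simp only [Bool.and_eq_true, Nat.blt_eq, List.all_eq_true, List.mem_range] at hk
      obtain ⟨⟨⟨hk3, hw⟩, -⟩, hidx⟩ := hk
      refine ⟨k, w, hk3, hw, fun g hg => ?_⟩
      obtain ⟨i, hi, rfl⟩ := List.getElem_of_mem hg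
      have h := hidx i hi
      have he := Nat.eq_of_beq_eq_true h.2
      rw [List.getD_eq_getElem g0 0 hi] at he
      rw [he]
      exact (hget _ h.1).2
    | branch i y opts sep ch =>
      simp only [Bool.and_eq_true, Nat.blt_eq, Bool.not_eq_true', allP_iff, List.all_eq_true,
        List.mem_range] at hk
      obtain ⟨⟨⟨⟨⟨⟨⟨hi, hy⟩, hyx⟩, nyx⟩, hsep⟩, hlen⟩, hch⟩, hcover⟩ := hk
      obtain ⟨px, cx⟩ := hget i hi
      obtain ⟨z, hz1, hz2, hz3⟩ := (section_facts hC ha hd (hcom _ px cx)).2 (γ y)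
        ⟨hγ.mem y hy, hnbx px hy hyx nyx⟩
      obtain ⟨r, hr, rfl⟩ := hγ.surj z hz1.1
      have hrx : orth r (l.getD i 0) = true := (hγ.comm r _ hr px).1 hz2.2.2.symm
      have hc := hcover r (mem_pts.2 hr)
      rw [hrx] at hc
      simp only [Bool.not_true, Bool.false_or, Bool.or_eq_true, List.any_eq_true, bne_iff_ne] at hc
      rcases hc with (hc | ⟨q, hq, hqr⟩) | ⟨u, hu, hsp⟩
      · exact absurd (congrArg γ (Nat.eq_of_beq_eq_true hc)) hz2.2.1
      · obtain rfl := Nat.eq_of_beq_eq_true hqr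
        obtain ⟨m', hm', hq'⟩ := List.getElem_of_mem hq
        have hlen' := Nat.eq_of_beq_eq_true hlen
        obtain ⟨⟨hgt, hlt⟩, hbase⟩ := hch m' (hlen' ▸ hm')
        rw [lengths.2.2.2.2.2.2] at hlt
        refine ih _ (by omega) _ hlt rfl fun p hp => ?_
        have hp' := hbase p hp
        simp only [List.any_eq_true] at hp'
        obtain ⟨q', hq'', hpq⟩ := hp'
        obtain rfl := Nat.eq_of_beq_eq_true hpq
        rcases List.mem_cons.1 hq'' with rfl | hq''
        · rw [List.getD_eq_getElem _ _ hm', hq']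
          exact ⟨hr, hz1.2.2.2⟩
        · exact hl _ hq''
      · obtain ⟨hu1, hu2⟩ := hsep u hu
        by_cases hux : u = l.getD i 0
        · subst hux
          refine absurd ?_ hsp
          rw [(hγ.comm _ y px hy).1 ((hγ.comm y _ hy px).2 hyx).symm,
            (hγ.comm _ r px hr).1 ((hγ.comm r _ hr px).2 hrx).symm]
        · have hum : γ u ∈ common D a (γ (l.getD i 0)) :=
            ⟨hγ.mem u hu1, (hγ.mem u hu1).1, fun e => hux (hγ.inj u _ hu1 px e), ((hγ.comm u _ hu1 px).2 hu2).symm⟩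
          have h := hz3 _ hum
          rw [hγ.comm u y hu1 hy, hγ.comm u r hu1 hr, ← Bool.eq_iff_iff] at h
          exact absurd h hsp

theorem psiK_spec {k p : ℕ} (hp : isPt p = true) :
    isPt (psiK k p) = true ∧ (k = 0 ∨ (k = 1 ∧ psiK k p = psi p) ∨ psiK k p = psi (psi p)) := by
  have h1 : ∀ q, isPt q = true → isPt (psi q) = true := fun q hq => by
    have := allP_iff.1 psi_check q (mem_pts.2 hq)
    rw [Bool.and_eq_true] at this
    exact this.1
  match k with
  | 0 => exact ⟨hp, Or.inl rfl⟩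
  | 1 => exact ⟨h1 p hp, Or.inr (Or.inl ⟨rfl, rfl⟩)⟩
  | k + 2 => exact ⟨h1 _ (h1 p hp), Or.inr (Or.inr rfl)⟩

/-- A normalised frame exists. -/
theorem exists_std {a : G} (ha : a ∈ D) : ∃ d δ, Std D a d δ := by
  classical
  obtain ⟨γ, hγ⟩ := hC.loc a ha
  obtain ⟨d, hd, -, d1, d4, d16⟩ := Pre22.exists_far_witness (pre22 hC) ha hγ
  obtain ⟨k, w, -, hw, hg0⟩ := exists_leaf hC ha hγ hd d1 d4 d16
  set g := (w.map γ).prod with hgdef
  have hga : Commute g a := by
    rw [hgdef]
    refine Commute.list_prod_left _ _ ?_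
    intro u hu
    obtain ⟨p, hp, rfl⟩ := List.mem_map.1 hu
    exact (hγ.mem p (hw p hp)).2.2.symm
  set d' := g⁻¹ * d * g with hd'
  have hd'far : d' ∈ far D a := by
    refine ⟨by simpa [hd'] using conj_mem hC.tt g⁻¹ hd.1, fun hc => hd.2 ?_⟩
    have h := (Commute.conj_iff g).2 hc
    rwa [hd', show g * (g⁻¹ * d * g) * g⁻¹ = d by group, hga.eq, mul_inv_cancel_right] at h
  set δ : ℕ → G := fun p => γ (psiK k p) with hδ
  have hpsi : ∀ p, isPt p = true → isPt (psiK k p) = true := fun p hp => (psiK_spec hC hp).1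
  have hinj : ∀ p q, isPt p = true → isPt q = true → psiK k p = psiK k q → p = q := by
    intro p q hp hq e
    have h3 : ∀ r, isPt r = true → psi (psi (psi r)) = r := fun r hr => by
      have := allP_iff.1 psi_check r (mem_pts.2 hr)
      rw [Bool.and_eq_true] at this
      exact Nat.eq_of_beq_eq_true this.2
    match k with
    | 0 => exact e
    | 1 =>
      have e' : psi p = psi q := e
      rw [← h3 p hp, ← h3 q hq, e']
    | j + 2 =>
      have e' : psi (psi p) = psi (psi q) := e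
      rw [← h3 p hp, ← h3 q hq, e']
  have hconj : ∀ e ∈ gX, ∀ p, isPt p = true → psiK k (tv e p) = tv (psiK k e) (psiK k p) := by
    intro e he p hp
    have h := List.all_eq_true.1 (allP_iff.1 psi_conj_check p (mem_pts.2 hp)) e he
    rw [Bool.and_eq_true] at h
    match k with
    | 0 => rfl
    | 1 => exact Nat.eq_of_beq_eq_true h.1
    | j + 2 => exact Nat.eq_of_beq_eq_true h.2
  have hgen0 : ∀ p ∈ g0, isPt p = true ∧ Commute d' (δ p) := fun p hp => by
    have hp' := List.all_eq_true.1 s0_check.2.2.1 p hp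
    refine ⟨hp', ?_⟩
    have h := (Commute.conj_iff g⁻¹).2 (hg0 p hp)
    rw [← (Pre22.fold_conj (pre22 hC) hγ w hw (hpsi p hp')).1, inv_inv,
      show g⁻¹ * ((w.map γ).prod * γ (psiK k p) * (w.map γ).prod⁻¹) * g = γ (psiK k p) by rw [hgdef]; group] at h
    exact h
  have hs0 : ∀ p ∈ s0, isPt p = true ∧ Commute d' (δ p) := by
    obtain ⟨hder, hok, -⟩ := s0_check
    have key : ∀ (L : List (ℕ × ℕ)) (l : List ℕ), deriveOK L l = true → derive L l = s0 →
        (∀ ij ∈ L, ij ∈ g0Der) → (∀ p ∈ l, isPt p = true ∧ Commute d' (δ p)) →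
        ∀ p ∈ derive L l, isPt p = true ∧ Commute d' (δ p) := by
      intro L
      induction L with
      | nil => exact fun l _ _ _ hl => hl
      | cons ij L ih =>
        obtain ⟨i, j⟩ := ij
        intro l hok hfin hsub hl
        simp only [deriveOK, Bool.and_eq_true, Nat.blt_eq] at hok
        obtain ⟨⟨⟨hi, hj⟩, -⟩, hrest⟩ := hok
        obtain ⟨p1, c1⟩ := hl (l.getD i 0) (by rw [List.getD_eq_getElem _ _ hi]; exact List.getElem_mem hi)
        obtain ⟨p2, c2⟩ := hl (l.getD j 0) (by rw [List.getD_eq_getElem _ _ hj]; exact List.getElem_mem hj)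
        refine ih _ hrest hfin (fun x hx => hsub x (List.mem_cons_of_mem _ hx)) fun p hp => ?_
        rcases List.mem_append.1 hp with hp | hp
        · exact hl p hp
        · obtain rfl := List.mem_singleton.1 hp
          have hext : ∀ (L : List (ℕ × ℕ)) (l : List ℕ) t, t < l.length → (derive L l).getD t 0 = l.getD t 0 := by
            intro L
            induction L with
            | nil => exact fun l t _ => rfl
            | cons ij L ih2 =>
              intro l t ht
              rw [derive, ih2 _ t (by simp; omega), List.getD_append _ _ _ _ ht]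
          have e1' : s0.getD i 0 = l.getD i 0 := by rw [← hfin]; exact hext ((i, j) :: L) l i hi
          have e2' : s0.getD j 0 = l.getD j 0 := by rw [← hfin]; exact hext ((i, j) :: L) l j hj
          have hpc := List.all_eq_true.1 s0_psi_check _ (hsub _ List.mem_cons_self)
          simp only [e1', e2', Bool.and_eq_true] at hpc
          refine ⟨hγ.isPt_tv _ _ p1 p2, ?_⟩
          have hee : psiK k (tv (l.getD i 0) (l.getD j 0)) = tv (psiK k (l.getD i 0)) (psiK k (l.getD j 0)) := by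
            match k with
            | 0 => rfl
            | 1 => exact Nat.eq_of_beq_eq_true hpc.1
            | m + 2 => exact Nat.eq_of_beq_eq_true hpc.2
          show Commute d' (γ (psiK k _))
          rw [hee, ← hγ.conj _ _ (hpsi _ p1) (hpsi _ p2)]
          exact (c1.mul_right c2).mul_right c1.inv_right
    intro p hp
    exact key g0Der g0 hok hder (fun _ h => h) hgen0 p (hder.symm ▸ hp)
  refine ⟨d', δ, hC.tt, ha, fun p hp => hγ.mem _ (hpsi p hp), fun x hx => ?_, hd'far, hγ.isPt_tv,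
    fun e he p hp => ?_, fun e he f hf => ?_, fun p hp => ⟨fun hc => ?_, fun hc => ?_⟩, ?_⟩
  · obtain ⟨p, hp, rfl⟩ := hγ.surj x hx
    have h3 := allP_iff.1 psi_check p (mem_pts.2 hp)
    simp only [Bool.and_eq_true] at h3
    have h3' := allP_iff.1 psi_check (psi p) (mem_pts.2 h3.1)
    simp only [Bool.and_eq_true] at h3'
    simp only [hδ]
    match k with
    | 0 => exact ⟨p, hp, rfl⟩
    | 1 => exact ⟨psi (psi p), h3'.1, congrArg γ (Nat.eq_of_beq_eq_true h3.2)⟩
    | m + 2 => exact ⟨psi p, h3.1, congrArg γ (Nat.eq_of_beq_eq_true h3.2)⟩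
  · rw [hδ]
    show γ _ * γ _ * (γ _)⁻¹ = γ _
    rw [hγ.conj _ _ (hpsi e (List.all_eq_true.1 gX_pts e he)) (hpsi p hp), hconj e he p hp]
  · have pe := List.all_eq_true.1 gX_pts e he
    have pf := List.all_eq_true.1 gX_pts f hf
    show Commute (γ _) (γ _) ↔ _
    rw [hγ.comm _ _ (hpsi e pe) (hpsi f pf)]
    have h := List.all_eq_true.1 (List.all_eq_true.1 psi_orth_check e he) f hf
    simp only [Bool.and_eq_true, beq_iff_eq] at h
    match k with
    | 0 => rfl
    | 1 => exact iff_of_eq (congrArg (· = true) h.1)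
    | m + 2 => exact iff_of_eq (congrArg (· = true) h.2)
  · by_contra hn
    have hnd : s0.Nodup := (nodup_of_distinctOK s0_check.2.2.2.1).1
    have hsub : (↑((p :: s0).toFinset.image δ) : Set G) ⊆ {x | x ∈ nb D a ∧ Commute d' x} := by
      intro x hx
      simp only [Finset.coe_image, List.coe_toFinset, Set.mem_image, Set.mem_setOf_eq] at hx
      obtain ⟨q, hq, rfl⟩ := hx
      rcases List.mem_cons.1 hq with rfl | hq
      · exact ⟨hγ.mem _ (hpsi _ hp), hc⟩
      · exact ⟨hγ.mem _ (hpsi _ (hs0 q hq).1), (hs0 q hq).2⟩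
    have hle := Set.ncard_le_ncard hsub (Set.toFinite _)
    have hps : ∀ q ∈ p :: s0, isPt q = true := fun q hq => by
      rcases List.mem_cons.1 hq with rfl | hq
      exacts [hp, (hs0 q hq).1]
    rw [Set.ncard_coe_finset, Finset.card_image_of_injOn, List.toFinset_card_of_nodup] at hle
    · rw [ncard_common hC ha hd'far.1 (fun h => hd'far.2 h.symm), List.length_cons, lengths.2.2.2.2.2.1] at hle
      omega
    · exact List.nodup_cons.2 ⟨fun hm => hn (inMask_maskOf.2 hm), hnd⟩
    · intro q hq q' hq' e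
      simp only [List.coe_toFinset, Set.mem_setOf_eq] at hq hq'
      exact hinj q q' (hps q hq) (hps q' hq') (hγ.inj _ _ (hpsi q (hps q hq)) (hpsi q' (hps q' hq')) e)
  · exact (hs0 p (inMask_maskOf.1 hc)).2
  · have hfix : ∀ p ∈ [1, 4, 5, 9, 13], psiK k p = p := by
      have hc : ([1, 4, 5, 9, 13] : List ℕ).all (fun p => Nat.beq (psi p) p) = true := by decide +kernel
      intro p hp
      have h := Nat.eq_of_beq_eq_true (List.all_eq_true.1 hc p hp)
      match k with
      | 0 => rfl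
      | 1 => exact h
      | m + 2 => exact (congrArg psi h).trans h
    have h := line_prod hC ha hγ
    show γ _ * γ _ * γ _ * γ _ * γ _ = a
    rw [hfix 1 (by simp), hfix 4 (by simp), hfix 5 (by simp), hfix 9 (by simp), hfix 13 (by simp)]
    exact h

end Cfsg.Agent.TT95.Uni22
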