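import Cfsg.Agent.TT95.Uni22.Check
import Cfsg.Agent.TT95.Cfg22
import Cfsg.Agent.TT95.Graph

/-!
Type M(22): twelve neighbours of a transposition and a far one satisfy the listed relators, and the
3510 named conjugates move as the table says.
-/

set_option autoImplicit false
set_option linter.unusedSectionVars false

namespace Cfsg.Agent.TT95.Uni22

open Cfsg.Agent.TT95.U6

variable {G : Type*} [Group G] {D : Set G}

/-- A normalised frame. -/
structure Std (D : Set G) (a d : G) (δ : ℕ → G) : Prop where
  tt : TTSet D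
  mema : a ∈ D
  mem : ∀ p, isPt p = true → δ p ∈ nb D a
  surj : ∀ x ∈ nb D a, ∃ p, isPt p = true ∧ δ p = x
  memd : d ∈ far D a
  isPt_tv : ∀ e p, isPt e = true → isPt p = true → isPt (tv e p) = true
  conj : ∀ e ∈ gX, ∀ p, isPt p = true → δ e * δ p * (δ e)⁻¹ = δ (tv e p)
  comm : ∀ e ∈ gX, ∀ f ∈ gX, (Commute (δ e) (δ f) ↔ orth e f = true)
  mark : ∀ p, isPt p = true → (Commute d (δ p) ↔ inS p = true)
  line : δ 1 * δ 4 * δ 5 * δ 9 * δ 13 = a

/-- The thirteen generators. -/
def gen (d : G) (δ : ℕ → G) (i : ℕ) : G := if i < 12 then δ (gX.getD i 0) else d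

/-- The named conjugates, with fuel. -/
def nameF (a d : G) (δ : ℕ → G) : ℕ → ℕ → G
  | 0, _ => a
  | f + 1, t => if t = 0 then a else gen d δ (parG t) * nameF a d δ f (parP t) * gen d δ (parG t)

/-- The named conjugates. -/
def name (a d : G) (δ : ℕ → G) (t : ℕ) : G := nameF a d δ 8 t

variable {a d : G} {δ : ℕ → G}

theorem gX_mem {i : ℕ} (hi : i < 12) : gX.getD i 0 ∈ gX ∧ isPt (gX.getD i 0) = true := by
  have hl : i < gX.length := by rw [lengths.1]; exact hi
  have hm : gX.getD i 0 ∈ gX := by rw [List.getD_eq_getElem _ _ hl]; exact List.getElem_mem hl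
  exact ⟨hm, List.all_eq_true.1 gX_pts _ hm⟩

variable (h : Std D a d δ)

include h

theorem gen_memD (i : ℕ) : gen d δ i ∈ D := by
  rw [gen]; split_ifs with hi
  exacts [(h.mem _ (gX_mem hi).2).1, h.memd.1]

theorem gen_sq (i : ℕ) : gen d δ i * gen d δ i = 1 := sq h.tt (gen_memD h i)

theorem gen_conj {i p : ℕ} (hi : i < 12) (hp : isPt p = true) :
    gen d δ i * δ p * (gen d δ i)⁻¹ = δ (tv (gX.getD i 0) p) := by
  rw [gen, if_pos hi]; exact h.conj _ (gX_mem hi).1 p hp

theorem isPt_tv_gX {e p : ℕ} (he : e ∈ gX) (hp : isPt p = true) : isPt (tv e p) = true := by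
  exact h.isPt_tv e p (List.all_eq_true.1 gX_pts e he) hp

theorem prod_rev_mul : ∀ r : List ℕ, (r.reverse.map (gen d δ)).prod * (r.map (gen d δ)).prod = 1
  | [] => by simp
  | x :: r => by
    rw [List.reverse_cons, List.map_append, List.prod_append, List.map_cons, List.map_nil, List.prod_singleton,
      List.map_cons, List.prod_cons, mul_assoc, ← mul_assoc (gen d δ x) (gen d δ x), gen_sq h, one_mul]
    exact prod_rev_mul r

theorem prod_rev (r : List ℕ) : (r.reverse.map (gen d δ)).prod = ((r.map (gen d δ)).prod)⁻¹ :=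
  eq_inv_of_mul_eq_one_left (prod_rev_mul h r)

theorem prod_red : ∀ r : List ℕ, ((red r).map (gen d δ)).prod = (r.map (gen d δ)).prod
  | [] => rfl
  | x :: r => by
    have ih := prod_red r
    rw [List.map_cons, List.prod_cons, ← ih]
    simp only [red]
    cases hr : red r with
    | nil => simp
    | cons y s =>
      dsimp only
      split_ifs with hxy
      · obtain rfl := Nat.eq_of_beq_eq_true hxy
        rw [List.map_cons, List.prod_cons, ← mul_assoc, gen_sq h, one_mul]
      · simp

theorem word_prod {j : ℕ} (hj : j < 301) :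
    ((wordOf j).map (gen d δ)).prod = δ (wordPt j) ∧ isPt (wordPt j) = true := by
  have hl : j < words.length := by rw [lengths.2.1]; exact hj
  have hw := List.all_eq_true.1 words_check (words.getD j (0, [], 0))
    (by rw [List.getD_eq_getElem _ _ hl]; exact List.getElem_mem hl)
  rw [wordOf, wordPt]
  generalize words.getD j (0, [], 0) = w at hw ⊢
  obtain ⟨p, u, x⟩ := w
  simp only [wordOK, Bool.and_eq_true, List.all_eq_true, Nat.blt_eq] at hw
  obtain ⟨⟨⟨hp, hx⟩, hu⟩, he⟩ := hw
  obtain rfl := Nat.eq_of_beq_eq_true he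
  refine ⟨?_, hp⟩
  dsimp only
  rw [List.map_append, List.prod_append, List.map_cons, List.prod_cons, prod_rev h, ← mul_assoc]
  clear hp he
  induction u with
  | nil => simp [gen, hx]
  | cons i u ih =>
    have hu' : ∀ i ∈ u, i < 12 := fun k hk => hu k (List.mem_cons_of_mem _ hk)
    have hpt : isPt ((u.map fun k => gX.getD k 0).foldr tv (gX.getD x 0)) = true := by
      clear ih hu
      induction u with
      | nil => exact (gX_mem hx).2
      | cons k u ih2 =>
        exact isPt_tv_gX h (gX_mem (hu' k List.mem_cons_self)).1 (ih2 fun m hm => hu' m (List.mem_cons_of_mem _ hm))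
    rw [List.map_cons, List.map_cons, List.foldr_cons, ← gen_conj h (hu i List.mem_cons_self) hpt, ← ih hu',
      List.prod_cons]
    group

theorem pair_one {x y : G} (hx : x ∈ D) (hy : y ∈ D) :
    (Commute x y → x * y * (x * y) = 1) ∧ (¬ Commute x y → x * y * (x * y) * (x * y) = 1) := by
  refine ⟨fun hc => ?_, fun hc => ?_⟩
  · rw [show x * y * (x * y) = x * (y * x) * y by group, ← hc.eq, ← mul_assoc, sq h.tt hx, one_mul, sq h.tt hy]
  · rw [show x * y * (x * y) * (x * y) = (x * y * x) * (y * x * y) by group, ← braid h.tt hx hy hc,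
      show x * y * x * (x * y * x) = x * y * (x * x) * y * x by group, sq h.tt hx, mul_one,
      show x * y * y * x = x * (y * y) * x by group, sq h.tt hy, mul_one, sq h.tt hx]

theorem relFull_one (c : ℕ × ℕ × ℕ × ℕ × List ℕ) (r : List ℕ) (hr : relOK r c = true) :
    ((relFull c).map (gen d δ)).prod = 1 := by
  obtain ⟨k, i, j, q, pre⟩ := c
  match k with
  | 0 =>
    simp only [relOK, Bool.and_eq_true, Nat.blt_eq] at hr
    have hij := h.comm _ (gX_mem hr.2.1.1).1 _ (gX_mem hr.2.1.2).1
    have hp := pair_one h (gen_memD h i) (gen_memD h j)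
    simp only [gen, hr.2.1.1, hr.2.1.2, if_true] at hp
    simp only [relFull]
    split_ifs with ho
    · simpa [gen, hr.2.1.1, hr.2.1.2, mul_assoc] using hp.1 (hij.2 ho)
    · simpa [gen, hr.2.1.1, hr.2.1.2, mul_assoc] using hp.2 (fun hc => ho (hij.1 hc))
  | 1 =>
    simp only [relOK, Bool.and_eq_true, Nat.blt_eq] at hr
    obtain ⟨hw, hpt⟩ := word_prod h hr.2.1
    have hp := pair_one h h.memd.1 (h.mem _ hpt).1
    have hm := h.mark _ hpt
    have e : ((12 :: wordOf i).map (gen d δ)).prod = d * δ (wordPt i) := by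
      rw [List.map_cons, List.prod_cons, hw]; simp [gen]
    simp only [relFull]
    split_ifs with ho
    · rw [List.map_append, List.prod_append, e]; exact hp.1 (hm.2 ho)
    · rw [List.map_append, List.map_append, List.prod_append, List.prod_append, e]
      exact hp.2 fun hc => ho (hm.1 hc)
  | k + 2 =>
    simp only [relOK, Bool.and_eq_true, Nat.blt_eq] at hr
    obtain ⟨-, ⟨⟨⟨⟨hi, hj⟩, hq⟩, he⟩, -⟩, -⟩ := hr
    obtain ⟨w1, p1⟩ := word_prod h hj
    obtain ⟨w2, p2⟩ := word_prod h hq
    have he' := gen_conj h hi p1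
    rw [Nat.eq_of_beq_eq_true he, inv_eq h.tt (gen_memD h i)] at he'
    simp only [relFull, List.map_cons, List.prod_cons, List.map_append, List.prod_append, w1, w2]
    rw [← mul_assoc, ← mul_assoc, he', sq h.tt (h.mem _ p2).1]

theorem eqL_eq : ∀ {x y : List ℕ}, eqL x y = true → x = y
  | [], [], _ => rfl
  | [], _ :: _, e => by simp [eqL] at e
  | _ :: _, [], e => by simp [eqL] at e
  | x :: r, y :: s, e => by
    simp only [eqL, Bool.and_eq_true] at e
    rw [Nat.eq_of_beq_eq_true e.1, eqL_eq e.2]

theorem rel_one {k : ℕ} (hk : k < 629) :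
    ((rels.getD k []).map (gen d δ)).prod = 1 ∧ ∀ i ∈ rels.getD k [], i < 13 := by
  have hr := List.all_eq_true.1 rels_check k (List.mem_range.2 hk)
  have h1 := relFull_one h _ _ hr
  generalize relCert.getD k (0, 0, 0, 0, []) = c at hr h1
  refine ⟨?_, ?_⟩
  swap
  · obtain ⟨k', i, j, q, pre⟩ := c
    match k' with
    | 0 | 1 | _ + 2 =>
      simp only [relOK, Bool.and_eq_true, Nat.blt_eq, List.all_eq_true] at hr
      exact hr.1
  obtain ⟨k', i, j, q, pre⟩ := c
  match k' with
  | 0 =>
    simp only [relOK, Bool.and_eq_true] at hr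
    rw [eqL_eq h hr.2.2]; exact h1
  | 1 =>
    simp only [relOK, Bool.and_eq_true] at hr
    rw [eqL_eq h hr.2.2]; exact h1
  | k' + 2 =>
    simp only [relOK, Bool.and_eq_true] at hr
    have e := congrArg (fun l => (l.map (gen d δ)).prod) (eqL_eq h hr.2.2)
    simp only [prod_red h, List.map_append, List.prod_append, prod_rev h, h1] at e
    rw [← mul_assoc, mul_inv_eq_one] at e
    exact mul_eq_left.1 e

/-- Conjugation along a word. -/
theorem fold_eq : ∀ (r : List ℕ) (x : G), r.foldl (fun y g => gen d δ g * y * gen d δ g) x =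
    ((r.map (gen d δ)).prod)⁻¹ * x * (r.map (gen d δ)).prod
  | [], x => by simp
  | g :: r, x => by
    rw [List.foldl_cons, fold_eq r, List.map_cons, List.prod_cons, mul_inv_rev, inv_eq h.tt (gen_memD h g)]
    simp only [mul_assoc]

theorem nameF_stable : ∀ f t, reach0 f t = true → nameF a d δ (f + 1) t = nameF a d δ f t
  | 0, t, e => by simp [nameF, Nat.eq_of_beq_eq_true e]
  | f + 1, t, e => by
    simp only [reach0, Bool.or_eq_true, Bool.and_eq_true] at e
    by_cases ht : t = 0
    · simp [nameF, ht]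
    · have e' := (e.resolve_left fun q => ht (Nat.eq_of_beq_eq_true q)).2
      rw [nameF, if_neg ht, nameF_stable f _ e']
      conv_rhs => rw [nameF, if_neg ht]

theorem walk_sound {k : ℕ}
    (hgood : ∀ c g, c < 3510 → g < 13 → eRank (ent c g) < k →
      gen d δ g * name a d δ c * gen d δ g = name a d δ (eTgt (ent c g))) :
    ∀ (r : List ℕ) (c : ℕ), walk k r c < 3510 →
      r.foldl (fun y g => gen d δ g * y * gen d δ g) (name a d δ c) = name a d δ (walk k r c)
  | [], c, _ => rfl
  | g :: r, c, hlt => by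
    rw [walk] at hlt ⊢
    split_ifs at hlt ⊢ with hc
    · simp only [Bool.and_eq_true, Nat.blt_eq] at hc
      rw [List.foldl_cons, hgood c g hc.1.1 hc.1.2 hc.2]
      exact walk_sound hgood r _ hlt
    · omega

/-- The table gives the action of the generators. -/
theorem ent_spec {c g : ℕ} (hc : c < 3510) (hg : g < 13) :
    eTgt (ent c g) < 3510 ∧ gen d δ g * name a d δ c * gen d δ g = name a d δ (eTgt (ent c g)) := by
  have hok : ∀ c g, c < 3510 → g < 13 → entOK c g = true := by
    intro c g hc hg
    have aux : ∀ lo n, (((List.range n).all fun c => (List.range 13).all fun g => entOK (lo + c) g) = true) →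
        lo ≤ c → c < lo + n → entOK c g = true := by
      intro lo n hck h1 h2
      have := List.all_eq_true.1 (List.all_eq_true.1 hck (c - lo) (List.mem_range.2 (by omega))) g (List.mem_range.2 hg)
      rwa [Nat.add_sub_cancel' h1] at this
    rcases Nat.lt_or_ge c 900 with h1 | h1
    · exact aux _ _ ent_check0 (Nat.zero_le _) (by omega)
    rcases Nat.lt_or_ge c 1800 with h2 | h2
    · exact aux _ _ ent_check1 h1 (by omega)
    rcases Nat.lt_or_ge c 2700 with h3 | h3
    · exact aux _ _ ent_check2 h2 (by omega)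
    · exact aux _ _ ent_check3 h3 (by omega)
  suffices hall : ∀ k c g, c < 3510 → g < 13 → eRank (ent c g) = k →
      eTgt (ent c g) < 3510 ∧ gen d δ g * name a d δ c * gen d δ g = name a d δ (eTgt (ent c g)) from
    hall _ c g hc hg rfl
  intro k
  induction k using Nat.strong_induction_on with
  | _ k ih =>
    intro c g hc hg hk
    have e := hok c g hc hg
    have hgood : ∀ c g, c < 3510 → g < 13 → eRank (ent c g) < k →
        gen d δ g * name a d δ c * gen d δ g = name a d δ (eTgt (ent c g)) :=
      fun c g hc hg hlt => (ih _ hlt c g hc hg rfl).2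
    simp only [entOK, Bool.and_eq_true, Nat.blt_eq] at e
    obtain ⟨ht, e⟩ := e
    refine ⟨ht, ?_⟩
    split at e
    · simp only [Bool.and_eq_true, Nat.blt_eq] at e
      obtain ⟨⟨⟨⟨⟨hrel, hi⟩, hs⟩, hgi⟩, hfw⟩, hbw⟩ := e
      rw [hk] at hfw hbw
      obtain ⟨hone, -⟩ := rel_one h hrel
      set r := rels.getD (eRel (ent c g)) []
      set i := ePos (ent c g)
      have hgi' := Nat.eq_of_beq_eq_true hgi
      have hfw' := Nat.eq_of_beq_eq_true hfw
      have hbw' := Nat.eq_of_beq_eq_true hbw
      have f1 := walk_sound h hgood (r.take i) _ (by rw [hfw']; exact hc)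
      have f2 := walk_sound h hgood (r.drop (i + 1)).reverse _ (by rw [hbw']; exact ht)
      rw [hfw', fold_eq h] at f1
      rw [hbw', fold_eq h, prod_rev h, inv_inv] at f2
      have hsplit : r.take i ++ g :: r.drop (i + 1) = r := by
        rw [← hgi', List.getD_eq_getElem _ _ hi, ← List.drop_eq_getElem_cons hi, List.take_append_drop]
      rw [← hsplit, List.map_append, List.prod_append, List.map_cons, List.prod_cons] at hone
      rw [← f1, ← f2, eq_inv_of_mul_eq_one_right hone |> fun q => show ((r.drop (i + 1)).map (gen d δ)).prod =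
        (gen d δ g)⁻¹ * (((r.take i).map (gen d δ)).prod)⁻¹ by rw [← q, inv_mul_cancel_left]]
      rw [inv_eq h.tt (gen_memD h g)]
      simp only [mul_inv_rev, inv_inv, mul_assoc, inv_eq h.tt (gen_memD h g)]
    · simp only [Bool.and_eq_true, Nat.blt_eq] at e
      have hlt : eRank (ent (eTgt (ent c g)) g) < k := hk ▸ e.2
      have := hgood _ g ht hg hlt
      rw [Nat.eq_of_beq_eq_true e.1] at this
      rw [← this, ← mul_assoc, ← mul_assoc, gen_sq h, one_mul, mul_assoc, gen_sq h, mul_one]
    · simp only [Bool.and_eq_true, Nat.blt_eq] at e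
      rw [Nat.eq_of_beq_eq_true e.1.2, Nat.eq_of_beq_eq_true e.1.1]
      show gen d δ g * a * gen d δ g = a
      rw [gen, if_pos e.2, ← (h.mem _ (gX_mem e.2).2).2.2.eq, mul_assoc, sq h.tt (h.mem _ (gX_mem e.2).2).1, mul_one]
    · simp only [Bool.and_eq_true, Bool.not_eq_true'] at e
      obtain ⟨⟨ht0, hp⟩, hg'⟩ := e
      have ht0' : eTgt (ent c g) ≠ 0 := fun q => by rw [q] at ht0; simp at ht0
      have hr := List.all_eq_true.1 reach_check _ (List.mem_range.2 ht)
      simp only [reach0, Bool.or_eq_true, Bool.and_eq_true] at hr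
      have hr' := (hr.resolve_left fun q => ht0' (Nat.eq_of_beq_eq_true q)).2
      conv_rhs => rw [name, nameF, if_neg ht0', Nat.eq_of_beq_eq_true hg', Nat.eq_of_beq_eq_true hp]
      rw [name, nameF_stable h 7 c (by rw [← Nat.eq_of_beq_eq_true hp]; simpa [reach0] using hr')]

end Cfsg.Agent.TT95.Uni22
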